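import Cfsg.Agent.Lib.Classical.FrameMax.Main
import Cfsg.Agent.Lib.Classical.OrthCount
import Cfsg.Agent.Lib.Classical.OrthApps
import Cfsg.Agent.Lib.Classical.LowRank.Five

/-!
# The order of `Ω` of a sum of five or six squares
-/

set_option autoImplicit false
set_option linter.unusedSectionVars false

namespace CfsgLib.Classical.PauliFour

open Module QuadraticMap Matrix CfsgLib.Orth CfsgLib.Classical.FrameMax

variable {F : Type*} [Field F] [Fintype F]

/-- An isometry onto the sum of squares from a space of the same dimension transports the order of `Ω`. -/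
theorem card_commutator_std (h2 : (2 : F) ≠ 0) {n : ℕ} (hn : 2 ≤ n) {ι : Type*} [Fintype ι]
    (Q : QuadraticForm F (ι → F)) (hQ : (QuadraticMap.polarBilin Q).Nondegenerate) (hι : Fintype.card ι = n)
    (j : (ι → F) →ₗ[F] (Fin n → F)) (hj : ∀ v, j v ⬝ᵥ j v = Q v) :
    4 * Nat.card (commutator (O F n)) = Nat.card (orthGroup Q) := by
  have hinj : Function.Injective j := by
    rw [injective_iff_map_eq_zero]
    intro v hv
    refine hQ.1 v fun w => ?_
    rw [QuadraticMap.polarBilin_apply_apply, QuadraticMap.polar, ← hj, ← hj, ← hj, map_add, hv]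
    simp
  have hdim : finrank F (ι → F) = finrank F (Fin n → F) := by
    rw [finrank_fintype_fun_eq_card, finrank_fintype_fun_eq_card, Fintype.card_fin, hι]
  let e : (ι → F) ≃ₗ[F] (Fin n → F) :=
    LinearEquiv.ofBijective j ⟨hinj, (LinearMap.injective_iff_surjective_of_finrank_eq_finrank hdim).1 hinj⟩
  have he : ∀ v, std F n (e v) = Q v := fun v => by
    rw [std_apply]; exact hj v
  rw [Nat.card_congr (orthGroupCongr e he).toEquiv, ← Subgroup.card_mul_index (commutator (O F n)),
    index_commutator_odd (std_nondeg h2) h2 (by rw [finrank_fintype_fun_eq_card, Fintype.card_fin]; exact hn),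
    mul_comm]

/-- Five squares. -/
theorem card_commutator_five (h2 : (2 : F) ≠ 0) {q : ℕ} (hF : Fintype.card F = q) :
    2 * Nat.card (commutator (O F 5)) = q ^ 4 * ((q ^ 2 - 1) * (q ^ 4 - 1)) := by
  obtain ⟨α, β, hab⟩ := exists_rep h2 (A := (1 : F)) (B := 1) one_ne_zero one_ne_zero (-1)
  let p : Fin 5 → (Unit ⊕ (Fin 2 ⊕ Fin 2) → F) →ₗ[F] F :=
    ![LinearMap.proj (.inr (.inl 0)) + (4 : F)⁻¹ • LinearMap.proj (.inr (.inr 0)),
      LinearMap.proj (.inr (.inl 1)) + (4 : F)⁻¹ • LinearMap.proj (.inr (.inr 1)),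
      α • (LinearMap.proj (.inr (.inl 0)) - (4 : F)⁻¹ • LinearMap.proj (.inr (.inr 0))) -
        β • (LinearMap.proj (.inr (.inl 1)) - (4 : F)⁻¹ • LinearMap.proj (.inr (.inr 1))),
      β • (LinearMap.proj (.inr (.inl 0)) - (4 : F)⁻¹ • LinearMap.proj (.inr (.inr 0))) +
        α • (LinearMap.proj (.inr (.inl 1)) - (4 : F)⁻¹ • LinearMap.proj (.inr (.inr 1))),
      LinearMap.proj (.inl ())]
  have h4 : (4 : F) * (4 : F)⁻¹ = 1 := mul_inv_cancel₀ fun h => mul_ne_zero h2 h2 (by linear_combination h)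
  have h := card_commutator_std h2 (n := 5) (by norm_num) (oddForm F 2) (oddForm_nondeg 2 h2) (by simp)
    (LinearMap.pi p) fun v => by
    rw [← oddForm_apply]
    simp [dotProduct, Fin.sum_univ_five, p, Cfsg.quadFormOdd, Fin.sum_univ_two]
    linear_combination ((v (.inr (.inl 0)) - (4 : F)⁻¹ * v (.inr (.inr 0))) ^ 2 +
      (v (.inr (.inl 1)) - (4 : F)⁻¹ * v (.inr (.inr 1))) ^ 2) * hab +
      (v (.inr (.inl 0)) * v (.inr (.inr 0)) + v (.inr (.inl 1)) * v (.inr (.inr 1))) * h4
  rw [card_orth_odd hF h2 2, Finset.prod_range_succ, Finset.prod_range_one] at h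
  norm_num at h ⊢
  linarith

end CfsgLib.Classical.PauliFour
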