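import Cfsg.Agent.Lib.Classical.PauliFour.SixMax
import Cfsg.Agent.Lib.Classical.Clifford4.Setup
import Cfsg.Agent.Lib.Classical.LowRank.Six
import Cfsg.Agent.Lib.Classical.PauliFour.StdForms

/-!
# The normaliser of a group of order sixty-four with centre of order four is maximal in `SL₄(p)`
-/

set_option autoImplicit false
set_option linter.unusedSectionVars false

namespace CfsgLib.Classical.PauliFour

open Module Matrix Cfsg Cfsg.Geo CfsgLib.Orth CfsgLib.Classical.FrameMax CfsgLib.Classical.LowRank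
  CfsgLib.Classical.Clifford4
open scoped MatrixGroups

variable {F : Type*} [Field F] [Fintype F]

theorem det_model {i : F} (hi : i * i = -1) (v : Lab) :
    (prodOf mA mB (mC i) mD v : Matrix (Fin 4) (Fin 4) F).det = 1 := by
  have ha : (mA : Matrix (Fin 4) (Fin 4) F).det = 1 := by simp [mA, Matrix.det_diagonal, Fin.prod_univ_four]
  have hb : (mB : Matrix (Fin 4) (Fin 4) F).det = 1 := by
    simp [mB, Matrix.det_succ_row_zero (n := 3), Matrix.det_fin_three, Fin.sum_univ_four, Fin.succAbove]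
  have hc : (mC i : Matrix (Fin 4) (Fin 4) F).det = 1 := by
    simp [mC, Matrix.det_diagonal, Fin.prod_univ_four]
    linear_combination (i * i - 1) * hi
  have hd : (mD : Matrix (Fin 4) (Fin 4) F).det = 1 := by
    simp [mD, Matrix.det_succ_row_zero (n := 3), Matrix.det_fin_three, Fin.sum_univ_four, Fin.succAbove]
  rw [prodOf, pairProd, pairProd]
  split_ifs <;> simp [ha, hb, hc, hd]

/-- Members of a frame group have determinant one. -/
theorem det_of_frame {R : Subgroup (GL (Fin 4) F)} {a b c d : Matrix (Fin 4) (Fin 4) F} (hf : FrameIn R a b c d)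
    {i : F} (hi : i * i = -1) (h4 : ∀ x ∈ R, x ^ 4 = 1) {P : GL (Fin 4) F}
    (hP : ∀ v, prodOf a b c d v * (P : Matrix (Fin 4) (Fin 4) F) =
      (P : Matrix (Fin 4) (Fin 4) F) * prodOf mA mB (mC i) mD v) {r : GL (Fin 4) F} (hr : r ∈ R) :
    (r : Matrix (Fin 4) (Fin 4) F).det = 1 := by
  obtain ⟨v, s, e'⟩ := hf.cover (r : Matrix (Fin 4) (Fin 4) F) ⟨r, hr, rfl⟩
  have hd : (prodOf a b c d v).det = 1 := by
    have e1 := congrArg Matrix.det (hP v)
    rw [Matrix.det_mul, Matrix.det_mul, det_model hi, mul_one] at e1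
    exact (mul_eq_right₀ ((Matrix.isUnit_iff_isUnit_det _).mp P.isUnit).ne_zero).1 e1
  have hs : s ^ 4 = 1 := by
    have e1 : (r : Matrix (Fin 4) (Fin 4) F) * r * (r * r) = 1 := by
      have := congrArg (fun g : GL (Fin 4) F => (g : Matrix (Fin 4) (Fin 4) F)) (h4 r hr)
      simpa [pow_succ, mul_assoc] using this
    simp only [e', Matrix.smul_mul, Matrix.mul_smul, hf.toStd.sq_eq, smul_smul, one_mul] at e1
    have e2 := congrFun (congrFun e1 0) 0
    simp only [Matrix.smul_apply, Matrix.one_apply_eq, smul_eq_mul, mul_one] at e2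
    rw [bitSgn] at e2
    split_ifs at e2 <;> linear_combination e2
  rw [e', Matrix.det_smul, Fintype.card_fin, hd, mul_one, hs]

/-- `SL₄` as a subgroup of `GL₄`. -/
theorem exists_slEquiv : Nonempty (SpecialLinearGroup (Fin 4) F ≃* specialLinear (Fin 4) F) := by
  let φ : SpecialLinearGroup (Fin 4) F →* GL (Fin 4) F := SpecialLinearGroup.toGL
  have hmem : ∀ A, φ A ∈ specialLinear (Fin 4) F := fun A => MonoidHom.mem_ker.2 (Units.ext A.2)
  refine ⟨MulEquiv.ofBijective (φ.codRestrict _ hmem) ⟨fun A B h => Subtype.ext ?_, fun g => ?_⟩⟩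
  · exact congrArg (fun x : specialLinear (Fin 4) F => ((x : GL (Fin 4) F) : Matrix (Fin 4) (Fin 4) F)) h
  · exact ⟨⟨(g.1 : Matrix (Fin 4) (Fin 4) F), congrArg Units.val (MonoidHom.mem_ker.1 g.2)⟩,
      Subtype.ext (Units.ext rfl)⟩

theorem linear_maximal {p : ℕ} (hp : p.Prime) (hF : Fintype.card F = p) (h4p : p % 4 = 1)
    {R : Subgroup (GL (Fin 4) F)} (hR : IsLinearSymplecticTypeData 2 R) :
    IsMaximalIn (specialLinear (Fin 4) F) (subgroupNormalizer R ⊓ specialLinear (Fin 4) F) := by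
  classical
  obtain ⟨p', e', -, -, hcases⟩ := hR.field
  rcases hcases with ⟨hodd, -⟩ | ⟨-, -, hZ, -, -⟩ | ⟨-, -, hcard2, -⟩
  · exact absurd hodd (by decide)
  swap
  · simp at hcard2
  have hdvd : 4 ∣ Fintype.card F - 1 := by rw [hF]; omega
  have h2 := two_ne_zero_of_four_dvd hdvd
  have hR6 : Nat.card R = 64 := by
    rw [(AschForm.symType_of_data (by norm_num) hR.symplecticType hR.absIrred (by rw [hZ]; rfl)
      (by rw [hZ, Nat.card_eq_fintype_card]; exact hdvd)).card_eq (by norm_num), hZ]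
  obtain ⟨i, a, b, c, d, hi, him, hf⟩ :=
    exists_frameIn_of_centre_four hR.symplecticType hR.absIrred (by rw [hR6]; norm_num) hZ hdvd
  obtain ⟨P, hP⟩ := exists_basis hf.toStd hi
  have hexp : ∀ x ∈ R, x ^ 4 = 1 := fun x hx => by
    have := Monoid.pow_exponent_eq_one (⟨x, hx⟩ : R)
    rw [hR.symplecticType.exponent_eq] at this
    exact congrArg Subtype.val this
  have hRΓ : R ≤ specialLinear (Fin 4) F := fun r hr =>
    MonoidHom.mem_ker.2 (Units.ext (det_of_frame hf hi hexp hP hr))
  obtain ⟨φ⟩ := exists_slEquiv (F := F)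
  have hperf : commutator (specialLinear (Fin 4) F) = ⊤ := by
    have h1 := congrArg (Subgroup.map φ.toMonoidHom) (sl_perfect (F := F) (n := Fin 4) (by simp))
    rw [commutator_def, Subgroup.map_commutator, Subgroup.map_top_of_surjective _ φ.surjective] at h1
    rwa [commutator_def]
  have hcard : 2 * Nat.card (commutator (O F 6)) ≤ Nat.card (specialLinear (Fin 4) F) := by
    rw [← Nat.card_congr φ.toEquiv, card_sl_four rfl]
    obtain ⟨L, hL⟩ : ∃ L : (Fin 3 ⊕ Fin 3 → F) →ₗ[F] (Fin 6 → F), ∀ v, L v = sixCrd i v :=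
      ⟨{ toFun := sixCrd i
         map_add' := fun u v => by funext k; fin_cases k <;> simp [sixCrd] <;> ring
         map_smul' := fun r v => by funext k; fin_cases k <;> simp [sixCrd] <;> ring }, fun _ => rfl⟩
    have h := card_commutator_std h2 (n := 6) (by norm_num) (plusForm F 3) (plusForm_nondeg 3) (by simp) L fun v => by
      rw [← plusForm_apply, hL, ← sixVec_quad hi, sixVec_sixCrd hi h2]
    rw [card_orth_plus rfl 2, Finset.prod_range_succ, Finset.prod_range_one] at h
    norm_num at h ⊢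
    linarith
  refine six_maximal (RingHom.id F) (hF ▸ hp) h2 h2 hi hf him hRΓ
    (fun g hg => congrArg Units.val (MonoidHom.mem_ker.1 hg)) hperf hcard P hP fun g hg x => ⟨sixCrd i (klein ((P⁻¹ * g * P : GL (Fin 4) F) : Matrix (Fin 4) (Fin 4) F) (realVec (RingHom.id F) i x)), ?_⟩
  exact (sixVec_sixCrd hi h2 _).symm

end CfsgLib.Classical.PauliFour
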