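import Cfsg.Agent.Lib.Classical.PauliFour.SixMax
import Cfsg.Agent.Lib.Classical.PauliFour.SL
import Cfsg.Agent.Lib.Classical.Clifford4.UnitaryBase
import Cfsg.Agent.Lib.Classical.AschPrime.UnitaryGroup

/-!
# The normaliser of a group of order sixty-four with centre of order four is maximal in `SU₄(p)`
-/

set_option autoImplicit false
set_option linter.unusedSectionVars false

namespace CfsgLib.Classical.PauliFour

open Module Matrix Cfsg Cfsg.Geo CfsgLib.Orth CfsgLib.Classical.FrameMax CfsgLib.Classical.LowRank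
  CfsgLib.Classical.Clifford4
open scoped MatrixGroups

variable {K : Type*} [Field K]

theorem adj_pairProd_mul {σ : K →+* K} {n : ℕ} {x y : Matrix (Fin n) (Fin n) K} (hx : adj σ x * x = 1)
    (hy : adj σ y * y = 1) : adj σ (x * y) * (x * y) = 1 := by
  rw [adj_mul, mul_assoc, ← mul_assoc (adj σ x), hx, one_mul, hy]

theorem adj_prodOf_mul {σ : K →+* K} {n : ℕ} {a b c d : Matrix (Fin n) (Fin n) K} (ha : adj σ a * a = 1)
    (hb : adj σ b * b = 1) (hc : adj σ c * c = 1) (hd : adj σ d * d = 1) (v : Lab) :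
    adj σ (prodOf a b c d v) * prodOf a b c d v = 1 := by
  have h1 : adj σ (1 : Matrix (Fin n) (Fin n) K) * 1 = 1 := by rw [adj_one, one_mul]
  rw [prodOf, pairProd, pairProd]
  refine adj_pairProd_mul (adj_pairProd_mul ?_ ?_) (adj_pairProd_mul ?_ ?_) <;> split_ifs <;> assumption

theorem adj_model {σ : K →+* K} {i : K} (hi : i * i = -1) (hσi : σ i = -i) (v : Lab) :
    adj σ (prodOf mA mB (mC i) mD v : Matrix (Fin 4) (Fin 4) K) * prodOf mA mB (mC i) mD v = 1 := by
  refine adj_prodOf_mul ?_ ?_ ?_ ?_ v <;> ext r s <;> fin_cases r <;> fin_cases s <;>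
    simp [adj, mA, mB, mC, mD, Matrix.mul_apply, Fin.sum_univ_four, Matrix.diagonal, hσi, hi]

/-- The six coordinates of the image of a real vector under a unitary matrix are real. -/
theorem sixCrd_real {σ : K →+* K} {i : K} (hi : i * i = -1) (h2 : (2 : K) ≠ 0) (hσi : σ i = -i)
    {A : Matrix (Fin 4) (Fin 4) K} (hA : A.det = 1) (hu : Aᵀ * A.map σ = 1) {x : Fin 6 → K}
    (hx : ∀ k, σ (x k) = x k) (k : Fin 6) :
    σ (sixCrd i (klein A (sixVec i x)) k) = sixCrd i (klein A (sixVec i x)) k := by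
  have hi0 : i ≠ 0 := by rintro rfl; simp at hi
  have h1 : (fun l => klein A (sixVec i x) l.swap) = klein (A.map σ) (fun l => sixVec i x l.swap) := by
    rw [← klein_dual hA (sixVec i x), ← LowRank.klein_mul, mul_eq_one_comm.1 hu, LowRank.klein_one]
  rw [show (fun l => sixVec i x l.swap) = fun l => σ (sixVec i x l) from
    funext fun l => (sixVec_real hσi hx l).symm, klein_map] at h1
  have h : ∀ l, σ (klein A (sixVec i x) l) = klein A (sixVec i x) l.swap := fun l => (congrFun h1 l).symm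
  generalize klein A (sixVec i x) = u at h ⊢
  fin_cases k <;> simp [sixCrd, map_div₀, map_add, map_sub, map_mul, map_ofNat, h, hσi] <;> field_simp <;> ring

variable [Fintype K]

/-- The normaliser of a unitary group of exponent four containing a frame and `i` is maximal in `SU₄(p)`. -/
theorem unitary_maximal_frame {p : ℕ} (hp : p.Prime) (hK : Fintype.card K = p ^ 2) (h4p : p % 4 = 3)
    {R : Subgroup (GL (Fin 4) K)} {i : K} {a b c d : Matrix (Fin 4) (Fin 4) K} (hi : i * i = -1)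
    (him : i • (1 : Matrix (Fin 4) (Fin 4) K) ∈ matrixSet R) (hf : FrameIn R a b c d) (hRU : R ≤ Cfsg.GU 4 K p)
    (hexp : ∀ x ∈ R, x ^ 4 = 1) :
    IsMaximalIn (Cfsg.GU 4 K p ⊓ specialLinear (Fin 4) K)
      (subgroupNormalizer R ⊓ (Cfsg.GU 4 K p ⊓ specialLinear (Fin 4) K)) := by
  classical
  haveI := Fact.mk hp
  haveI : CharP K p := charP_of_card_eq_prime_pow hK
  obtain ⟨σ, hσ, hc⟩ := exists_frob hK
  have hdvd : 4 ∣ Fintype.card K - 1 := by
    obtain ⟨k, rfl⟩ : ∃ k, p = 4 * k + 3 := ⟨p / 4, by omega⟩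
    rw [hK]
    refine ⟨4 * k * k + 6 * k + 2, ?_⟩
    rw [show (4 * k + 3) ^ 2 = 4 * (4 * k * k + 6 * k + 2) + 1 by ring, Nat.add_sub_cancel]
  have h2 := two_ne_zero_of_four_dvd hdvd
  have h2F : (2 : ZMod p) ≠ 0 := fun h => h2 (by
    have := congrArg (ZMod.castHom (dvd_refl p) K) h
    rwa [map_ofNat, map_zero] at this)
  have hσi : σ i = -i := by
    obtain ⟨k, hk⟩ : ∃ k, p = 2 * (2 * k) + 3 := ⟨p / 4, by omega⟩
    rw [hσ, hk, pow_add, pow_mul i 2, pow_mul (i ^ 2) 2, pow_two i, hi, neg_one_sq, one_pow, one_mul,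
      pow_succ, pow_two, hi, neg_one_mul]
  obtain ⟨P₀, hP₀⟩ := exists_basis hf.toStd hi
  -- frame members are unitary
  have hadj : ∀ x ∈ matrixSet R, adj σ x * x = 1 := by
    rintro _ ⟨r, hr, rfl⟩
    exact (mem_GU_iff_adj hσ).mp (hRU hr)
  have hadjX : ∀ v, adj σ (prodOf a b c d v) * prodOf a b c d v = 1 :=
    fun v => adj_prodOf_mul (hadj _ hf.ma) (hadj _ hf.mb) (hadj _ hf.mc) (hadj _ hf.md) v
  -- the basis is orthogonal up to a scalar
  set Q : Matrix (Fin 4) (Fin 4) K := (P₀ : Matrix (Fin 4) (Fin 4) K) with hQ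
  obtain ⟨h, hh⟩ := hf.toStd.toFrame.commutant (Q * adj σ Q) (fun v => by
    obtain ⟨X, hX⟩ : ∃ X, X = prodOf a b c d v := ⟨_, rfl⟩
    obtain ⟨m, hm⟩ : ∃ m : Matrix (Fin 4) (Fin 4) K, m = prodOf mA mB (mC i) mD v := ⟨_, rfl⟩
    have e0 : X * Q = Q * m := by rw [hX, hm]; exact hP₀ v
    have e : adj σ Q * adj σ X = adj σ m * adj σ Q := by rw [← adj_mul, ← adj_mul, e0]
    rw [← hX]
    calc Q * adj σ Q * X = Q * (m * adj σ m) * adj σ Q * X := by
          rw [hm, mul_eq_one_comm.1 (adj_model hi hσi v), mul_one]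
      _ = Q * m * (adj σ m * adj σ Q) * X := by simp only [mul_assoc]
      _ = X * Q * adj σ Q * (adj σ X * X) := by rw [← e, ← e0]; simp only [mul_assoc]
      _ = X * (Q * adj σ Q) := by rw [hX, hadjX, mul_one]; simp only [mul_assoc])
  have hh0 : h ≠ 0 := by
    rintro rfl
    have := congrArg Matrix.det hh
    rw [zero_smul, Matrix.det_zero, Matrix.det_mul, det_adj] at this
    have hd : Q.det ≠ 0 := ((Matrix.isUnit_iff_isUnit_det _).mp P₀.isUnit).ne_zero
    exact mul_ne_zero hd (by rwa [Ne, map_eq_zero]) this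
  have hσh : σ h = h := by
    have e := congrArg (adj σ) hh
    rw [adj_mul, adj_adj (hc := hc), hh, adj_smul, adj_one] at e
    simpa using (congrFun (congrFun e 0) 0).symm
  obtain ⟨t, ht⟩ := hc.exists_norm_eq (a := h⁻¹) (by rw [map_inv₀, hσh])
  have ht0 : t ≠ 0 := by rintro rfl; exact inv_ne_zero hh0 (by rw [← ht, zero_mul])
  obtain ⟨P, hPe⟩ : ∃ P : GL (Fin 4) K, (P : Matrix (Fin 4) (Fin 4) K) = t • Q :=
    ⟨Units.map (Matrix.scalar (Fin 4) : K →+* Matrix (Fin 4) (Fin 4) K).toMonoidHom (Units.mk0 t ht0) * P₀, by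
      rw [Units.val_mul, AschGen.scalar_unit, Matrix.smul_mul, one_mul, Units.val_mk0]⟩
  have hP : ∀ v, prodOf a b c d v * (P : Matrix (Fin 4) (Fin 4) K) =
      (P : Matrix (Fin 4) (Fin 4) K) * prodOf mA mB (mC i) mD v := fun v => by
    rw [hPe, Matrix.mul_smul, Matrix.smul_mul, hP₀]
  have hPU : P ∈ Cfsg.GU 4 K p := by
    have e : adj σ Q * (h⁻¹ • Q) = 1 := mul_eq_one_comm.1 (by
      rw [Matrix.smul_mul, hh, smul_smul, inv_mul_cancel₀ hh0, one_smul])
    rw [mem_GU_iff_adj hσ, hPe, adj_smul, Matrix.smul_mul, Matrix.mul_smul, smul_smul, mul_comm (σ t), ht]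
    rwa [Matrix.mul_smul] at e
  have hRΓ : R ≤ Cfsg.GU 4 K p ⊓ specialLinear (Fin 4) K := fun r hr =>
    ⟨hRU hr, MonoidHom.mem_ker.2 (Units.ext (det_of_frame hf hi hexp hP hr))⟩
  have hperf : commutator (Cfsg.GU 4 K p ⊓ specialLinear (Fin 4) K : Subgroup (GL (Fin 4) K)) = ⊤ := by
    refine Subgroup.map_injective (Subgroup.subtype_injective _) ?_
    rw [commutator_def, Subgroup.map_commutator, ← MonoidHom.range_eq_map, Subgroup.range_subtype]
    exact (AschPrime.suG_perfect_and_normal hK (by norm_num) (Or.inr le_rfl)).1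
  have hns : ∀ z : ZMod p, z ^ 2 ≠ -1 := fun z hz =>
    (ZMod.exists_sq_eq_neg_one_iff.1 ⟨z, by rw [← pow_two, hz]⟩) h4p
  have hcard : 2 * Nat.card (commutator (O (ZMod p) 6)) ≤
      Nat.card (Cfsg.GU 4 K p ⊓ specialLinear (Fin 4) K : Subgroup (GL (Fin 4) K)) := by
    have hab : ∀ z₁ z₂ : ZMod p, z₁ ^ 2 + 0 * z₁ * z₂ + 1 * z₂ ^ 2 = 0 → z₁ = 0 ∧ z₂ = 0 := by
      intro z₁ z₂ e
      have hz₂ : z₂ = 0 := by
        by_contra hne
        refine hns (z₁ / z₂) ?_
        field_simp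
        linear_combination e
      subst hz₂
      exact ⟨by simpa using e, rfl⟩
    obtain ⟨α, β, hαβ⟩ := exists_rep h2F (A := (1 : ZMod p)) (B := 1) one_ne_zero one_ne_zero (-1)
    have h4 : (4 : ZMod p) * (4 : ZMod p)⁻¹ = 1 :=
      mul_inv_cancel₀ fun h => mul_ne_zero h2F h2F (by linear_combination h)
    let f : Fin 6 → ((Fin 2 ⊕ Fin 2) ⊕ Fin 2 → ZMod p) →ₗ[ZMod p] ZMod p :=
      ![LinearMap.proj (.inl (.inl 0)) + (4 : ZMod p)⁻¹ • LinearMap.proj (.inl (.inr 0)),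
        LinearMap.proj (.inl (.inl 1)) + (4 : ZMod p)⁻¹ • LinearMap.proj (.inl (.inr 1)),
        α • (LinearMap.proj (.inl (.inl 0)) - (4 : ZMod p)⁻¹ • LinearMap.proj (.inl (.inr 0))) -
          β • (LinearMap.proj (.inl (.inl 1)) - (4 : ZMod p)⁻¹ • LinearMap.proj (.inl (.inr 1))),
        β • (LinearMap.proj (.inl (.inl 0)) - (4 : ZMod p)⁻¹ • LinearMap.proj (.inl (.inr 0))) +
          α • (LinearMap.proj (.inl (.inl 1)) - (4 : ZMod p)⁻¹ • LinearMap.proj (.inl (.inr 1))),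
        LinearMap.proj (.inr 0), LinearMap.proj (.inr 1)]
    have h := card_commutator_std h2F (n := 6) (by norm_num) (minusForm (ZMod p) 2 0 1)
      (minusForm_nondeg 2 0 1 hab) (by simp) (LinearMap.pi f) fun v => by
        rw [← minusForm_apply]
        simp [dotProduct, Fin.sum_univ_six, f, Cfsg.quadFormMinus, Fin.sum_univ_two]
        linear_combination ((v (.inl (.inl 0)) - (4 : ZMod p)⁻¹ * v (.inl (.inr 0))) ^ 2 +
          (v (.inl (.inl 1)) - (4 : ZMod p)⁻¹ * v (.inl (.inr 1))) ^ 2) * hαβ +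
          (v (.inl (.inl 0)) * v (.inl (.inr 0)) + v (.inl (.inl 1)) * v (.inl (.inr 1))) * h4
    rw [card_orth_minus (ZMod.card p) 0 1 hab 2, Finset.prod_range_succ, Finset.prod_range_one] at h
    have hS := card_SU_mul (n := 4) hK (by norm_num)
    rw [Nat.card_congr AschPrime.suGEquiv.toEquiv, card_GU hK 4] at hS
    change (p + 1) * Nat.card (Cfsg.GU 4 K p ⊓ specialLinear (Fin 4) K : Subgroup (GL (Fin 4) K)) = _ at hS
    generalize Nat.card (Cfsg.GU 4 K p ⊓ specialLinear (Fin 4) K : Subgroup (GL (Fin 4) K)) = N at hS ⊢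
    norm_num [Finset.prod_range_succ, -Nat.card_eq_fintype_card, Nat.even_iff] at hS
    refine Nat.le_of_mul_le_mul_left (le_of_eq ?_) (Nat.succ_pos p)
    rw [Nat.succ_eq_add_one, hS]
    norm_num at h ⊢
    obtain ⟨y, hy⟩ : ∃ y, y = p ^ 2 - 1 := ⟨_, rfl⟩
    obtain ⟨z, hz⟩ : ∃ z, z = p ^ 4 - 1 := ⟨_, rfl⟩
    rw [← hy, ← hz] at h ⊢
    refine Nat.eq_of_mul_eq_mul_left two_pos ?_
    linear_combination (p + 1) * h
  refine six_maximal (ZMod.castHom (dvd_refl p) K) (by rw [ZMod.card]; exact hp) h2F h2 hi hf him hRΓ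
    (fun g hg => congrArg Units.val (MonoidHom.mem_ker.1 hg.2)) hperf hcard P hP fun g hg x => ?_
  set A : GL (Fin 4) K := P⁻¹ * g * P with hA
  have hAU : A ∈ Cfsg.GU 4 K p := mul_mem (mul_mem (inv_mem hPU) hg.1) hPU
  have hAd : (A : Matrix (Fin 4) (Fin 4) K).det = 1 := by
    rw [hA, Units.val_mul, Units.val_mul, Matrix.det_units_conj']
    exact congrArg Units.val (MonoidHom.mem_ker.1 hg.2)
  have hAu : (A : Matrix (Fin 4) (Fin 4) K)ᵀ * (A : Matrix (Fin 4) (Fin 4) K).map σ = 1 := by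
    have := congrArg Matrix.transpose ((mem_GU_iff_adj hσ).mp hAU)
    rwa [adj, Matrix.transpose_mul, Matrix.transpose_transpose, Matrix.transpose_one] at this
  have hfix : ∀ k, σ (ZMod.castHom (dvd_refl p) K (x k)) = ZMod.castHom (dvd_refl p) K (x k) := fun k => by
    rw [hσ, ← map_pow, ZMod.pow_card]
  have hmem : ∀ k, ∃ y : ZMod p, ZMod.castHom (dvd_refl p) K y =
      sixCrd i (klein (A : Matrix (Fin 4) (Fin 4) K) (realVec (ZMod.castHom (dvd_refl p) K) i x)) k := fun k => by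
    have e := sixCrd_real hi h2 hσi hAd hAu hfix k
    rw [hσ, ← Subfield.mem_bot_iff_pow_eq_self K p, ← ZMod.fieldRange_castHom_eq_bot (K := K) p] at e
    exact e
  choose y hy using hmem
  exact ⟨y, ((congrArg (sixVec i) (funext hy)).trans (sixVec_sixCrd hi h2 _)).symm⟩

/-- The normaliser of a unitary group of order sixty-four with centre of order four is maximal in `SU₄(p)`. -/
theorem unitary_maximal {p : ℕ} (hp : p.Prime) (hK : Fintype.card K = p ^ 2) (h4p : p % 4 = 3)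
    {R : Subgroup (GL (Fin 4) K)} (hST : IsSymplecticTypeGroup 2 R)
    (habs : ActsAbsolutelyIrreducibly (matrixSet R)) (hRU : R ≤ Cfsg.GU 4 K p) (hR6 : Nat.card R = 64)
    (hZ : Nat.card (Subgroup.center R) = 4) :
    IsMaximalIn (Cfsg.GU 4 K p ⊓ specialLinear (Fin 4) K)
      (subgroupNormalizer R ⊓ (Cfsg.GU 4 K p ⊓ specialLinear (Fin 4) K)) := by
  have hdvd : 4 ∣ Fintype.card K - 1 := by
    obtain ⟨k, rfl⟩ : ∃ k, p = 4 * k + 3 := ⟨p / 4, by omega⟩
    rw [hK]
    refine ⟨4 * k * k + 6 * k + 2, ?_⟩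
    rw [show (4 * k + 3) ^ 2 = 4 * (4 * k * k + 6 * k + 2) + 1 by ring, Nat.add_sub_cancel]
  obtain ⟨i, a, b, c, d, hi, him, hf⟩ :=
    exists_frameIn_of_centre_four hST habs (by rw [hR6]; norm_num) hZ hdvd
  refine unitary_maximal_frame hp hK h4p hi him hf hRU fun x hx => ?_
  have := Monoid.pow_exponent_eq_one (⟨x, hx⟩ : R)
  rw [hST.exponent_eq] at this
  exact congrArg Subtype.val this

end CfsgLib.Classical.PauliFour
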