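import Cfsg.Agent.Lib.Classical.PauliFour.Pullback
import Cfsg.Agent.Lib.Classical.PauliFour.StdForms
import Cfsg.Agent.Lib.Classical.Clifford4.Twist
import Cfsg.Agent.Lib.Classical.Clifford4.SympConj
import Cfsg.Agent.Lib.Classical.SympMatrixSimple
import Cfsg.Agent.Lib.Classical.SympCount
import Cfsg.Agent.S6002

/-!
# The five self-adjoint members of a group of minus type in `Sp₄`
-/

set_option autoImplicit false
set_option linter.unusedSectionVars false

namespace CfsgLib.Classical.PauliFour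

open Module Matrix Cfsg Cfsg.Geo CfsgLib.Orth CfsgLib.Classical.FrameMax CfsgLib.Classical.Clifford4
open scoped MatrixGroups

/-- Symplectic index set. -/
abbrev I4 := Fin 2 ⊕ Fin 2

/-- The labels of the five self-adjoint members. -/
def lab5 : Fin 5 → Lab :=
  ![((1, 0), 0, 0), ((0, 1), 0, 0), ((1, 1), 1, 0), ((1, 1), 0, 1), ((1, 1), 1, 1)]

theorem lab5_injective : Function.Injective lab5 := by decide +kernel

theorem lab5_omega : ∀ j k, omega (lab5 j) (lab5 k) = if j = k then 0 else 1 := by decide +kernel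

theorem lab5_q : ∀ k, qStd (lab5 k) = 0 ∧ lab5 k ≠ 0 := by decide +kernel

theorem lab5_cover : ∀ v : Lab, qStd v = 0 → v ≠ 0 → ∃ k, lab5 k = v := by decide +kernel

theorem lab5_signs : ∀ S : Finset (Fin 5), Even S.card →
    ∃ v : Lab, ∀ k, omega v (lab5 k) = if k ∈ S then 1 else 0 := by decide +kernel

variable {F : Type*} [Field F] [Fintype F]

/-- A combination of the five members. -/
def comb (a b c d : Matrix I4 I4 F) : (Fin 5 → F) →ₗ[F] Matrix I4 I4 F where
  toFun x := ∑ k, x k • prodOf a b c d (lab5 k)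
  map_add' x y := by simp [add_smul, Finset.sum_add_distrib]
  map_smul' r x := by simp [Finset.smul_sum, smul_smul]

/-- The coordinates of a combination. -/
def crd (a b c d : Matrix I4 I4 F) : Matrix I4 I4 F →ₗ[F] (Fin 5 → F) where
  toFun X k := (4 : F)⁻¹ * (prodOf a b c d (lab5 k) * X).trace
  map_add' X Y := by funext k; simp [mul_add, Matrix.trace_add]
  map_smul' r X := by funext k; simp [Matrix.trace_smul]; ring

variable {R : Subgroup (GL I4 F)} {a b c d : Matrix I4 I4 F}

theorem prodOf_mem (h : FrameIn R a b c d) (v : Lab) : prodOf a b c d v ∈ matrixSet R :=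
  mem_mul (mem_pairProd h.ma h.mb _) (mem_pairProd h.mc h.md _)

theorem comb_sq (h : FrameIn R a b c d) (x : Fin 5 → F) :
    comb a b c d x * comb a b c d x = (x ⬝ᵥ x) • 1 := by
  classical
  have e1 : comb a b c d x * comb a b c d x =
      ∑ j, ∑ k, (x j * x k) • (prodOf a b c d (lab5 j) * prodOf a b c d (lab5 k)) := by
    show (∑ j, x j • prodOf a b c d (lab5 j)) * (∑ k, x k • prodOf a b c d (lab5 k)) = _
    rw [Finset.sum_mul]
    refine Finset.sum_congr rfl fun j _ => ?_
    rw [Finset.mul_sum]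
    refine Finset.sum_congr rfl fun k _ => ?_
    rw [Matrix.smul_mul, Matrix.mul_smul, smul_smul]
  refine smul_right_injective _ h.two ?_
  show (2 : F) • _ = (2 : F) • _
  conv_lhs => rw [two_smul, e1]; arg 2; rw [Finset.sum_comm]
  rw [← Finset.sum_add_distrib, dotProduct, Finset.sum_smul, Finset.smul_sum]
  refine Finset.sum_congr rfl fun j _ => ?_
  rw [← Finset.sum_add_distrib, Finset.sum_eq_single j]
  · rw [h.toStd.sq_eq, (lab5_q j).1, two_smul]; simp [bitSgn]
  · intro k _ hkj
    rw [h.toFrame.comm_label (lab5 k) (lab5 j), lab5_omega, if_neg hkj, bitSgn, if_neg one_ne_zero, neg_one_smul,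
      mul_comm (x k), smul_neg, add_neg_cancel]
  · simp

theorem crd_comb (h : FrameIn R a b c d) (x : Fin 5 → F) : crd a b c d (comb a b c d x) = x := by
  classical
  funext k
  show (4 : F)⁻¹ * (prodOf a b c d (lab5 k) * ∑ j, x j • prodOf a b c d (lab5 j)).trace = x k
  rw [Finset.mul_sum, Matrix.trace_sum, Finset.sum_eq_single k]
  · rw [Matrix.mul_smul, Matrix.trace_smul, h.toStd.sq_eq, (lab5_q k).1, bitSgn, if_pos rfl, one_smul,
      Matrix.trace_one, h.card, smul_eq_mul]
    push_cast
    rw [mul_comm (x k), ← mul_assoc, inv_mul_cancel₀ h.toFrame.four_ne_zero, one_mul]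
  · intro j _ hjk
    obtain ⟨e', he⟩ := h.toFrame.mul_label (lab5 k) (lab5 j)
    rw [Matrix.mul_smul, he, smul_smul, Matrix.trace_smul, h.toFrame.trace_prodOf, if_neg, smul_zero]
    intro h0
    refine hjk (lab5_injective ?_)
    have : ∀ v w : Lab, v + w = 0 → w = v := by decide
    exact this _ _ h0
  · simp

theorem comb_injective (h : FrameIn R a b c d) : Function.Injective (comb a b c d) :=
  Function.LeftInverse.injective (crd_comb h)

variable (hR : R ≤ spGL 2 F)
include hR

theorem prodOf_adjoint (h : FrameIn R a b c d) (v : Lab) :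
    (prodOf a b c d v)ᵀ * Matrix.J (Fin 2) F = Matrix.J (Fin 2) F * ((bitSgn (qStd v) : F) • prodOf a b c d v) := by
  obtain ⟨g, hg, e'⟩ := prodOf_mem h v
  have e : (g : Matrix I4 I4 F) = prodOf a b c d v := e'
  rw [← e, sp_transpose_J (hR hg)]
  congr 1
  refine (Units.inv_eq_of_mul_eq_one_right ?_)
  rw [Matrix.mul_smul, e, h.toStd.sq_eq, smul_smul]
  unfold bitSgn
  split_ifs <;> simp

/-- Traceless self-adjoint matrices are combinations of the five members. -/
theorem eq_comb (h : FrameIn R a b c d) {X : Matrix I4 I4 F}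
    (hX : Xᵀ * Matrix.J (Fin 2) F = Matrix.J (Fin 2) F * X) (htr : X.trace = 0) :
    comb a b c d (crd a b c d X) = X := by
  classical
  obtain ⟨co, hco⟩ := (Submodule.mem_span_range_iff_exists_fun F).1
    (show X ∈ Submodule.span F (Set.range (prodOf a b c d)) from h.toFrame.span_eq_top ▸ Submodule.mem_top)
  have h1 : ∑ v, (co v * ((bitSgn (qStd v) : F) - 1)) • prodOf a b c d v = 0 := by
    refine (sub_eq_zero.2 (J_cancel (?_ : Matrix.J (Fin 2) F * ∑ v, co v • ((bitSgn (qStd v) : F) • prodOf a b c d v) =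
      Matrix.J (Fin 2) F * ∑ v, co v • prodOf a b c d v))).symm.trans ?_ |>.symm
    · rw [hco, ← hX, ← hco, Matrix.transpose_sum, Finset.sum_mul, Finset.mul_sum]
      refine Finset.sum_congr rfl fun v _ => ?_
      simp only [Matrix.transpose_smul, Matrix.smul_mul, prodOf_adjoint hR h, Matrix.mul_smul]
    · rw [← Finset.sum_sub_distrib]
      exact Finset.sum_congr rfl fun v _ => by rw [mul_sub, mul_one, sub_smul, smul_smul]
  have h3 : ∀ v, qStd v ≠ 0 → co v = 0 := fun v hv => by
    have := Fintype.linearIndependent_iff.1 h.toFrame.linearIndependent _ h1 v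
    rw [bitSgn, if_neg hv] at this
    exact (mul_eq_zero.1 this).resolve_right fun e' => h.two (by linear_combination -e')
  have h4 : co 0 = 0 := by
    rw [← hco, Matrix.trace_sum, Finset.sum_eq_single (0 : Lab)] at htr
    · rw [Matrix.trace_smul, h.toFrame.trace_prodOf, if_pos rfl, smul_eq_mul] at htr
      exact (mul_eq_zero.1 htr).resolve_right h.toFrame.four_ne_zero
    · intro v _ hv
      rw [Matrix.trace_smul, h.toFrame.trace_prodOf, if_neg hv, smul_zero]
    · simp
  have hX' : X = comb a b c d (fun k => co (lab5 k)) := by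
    rw [← hco]
    show _ = ∑ k, co (lab5 k) • prodOf a b c d (lab5 k)
    rw [← Finset.sum_image (g := lab5) (f := fun v => co v • prodOf a b c d v) fun x _ y _ e => lab5_injective e]
    refine (Finset.sum_subset (Finset.subset_univ _) fun v _ hv => ?_).symm
    have : co v = 0 := by
      by_cases hq : qStd v = 0
      · by_cases hv0 : v = 0
        · rw [hv0, h4]
        · obtain ⟨k, hk⟩ := lab5_cover v hq hv0
          exact absurd (Finset.mem_image.2 ⟨k, Finset.mem_univ k, hk⟩) hv
      · exact h3 v hq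
    rw [this, zero_smul]
  rw [hX', crd_comb h]

theorem conj_adjoint (h : FrameIn R a b c d) (g : spGL 2 F) (x : Fin 5 → F) :
    comb a b c d (crd a b c d ((g.1 : Matrix I4 I4 F) * comb a b c d x * ((g.1⁻¹ : GL I4 F) : Matrix I4 I4 F))) =
      (g.1 : Matrix I4 I4 F) * comb a b c d x * ((g.1⁻¹ : GL I4 F) : Matrix I4 I4 F) := by
  classical
  have hT : (comb a b c d x)ᵀ * Matrix.J (Fin 2) F = Matrix.J (Fin 2) F * comb a b c d x := by
    show (∑ k, x k • prodOf a b c d (lab5 k))ᵀ * _ = _ * ∑ k, x k • prodOf a b c d (lab5 k)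
    rw [Matrix.transpose_sum, Finset.sum_mul, Finset.mul_sum]
    refine Finset.sum_congr rfl fun k _ => ?_
    rw [Matrix.transpose_smul, Matrix.smul_mul, prodOf_adjoint hR h, (lab5_q k).1, bitSgn, if_pos rfl, one_smul,
      Matrix.mul_smul]
  refine eq_comb hR h ?_ ?_
  · rw [Matrix.transpose_mul, Matrix.transpose_mul, mul_assoc, mul_assoc, sp_transpose_J g.2,
      ← mul_assoc ((comb a b c d x)ᵀ), hT, ← mul_assoc, ← mul_assoc, sp_transpose_J (inv_mem g.2), inv_inv]
    simp only [mul_assoc]
  · rw [Matrix.trace_mul_cycle, Units.inv_mul, one_mul]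
    show (∑ k, x k • prodOf a b c d (lab5 k)).trace = 0
    rw [Matrix.trace_sum]
    exact Finset.sum_eq_zero fun k _ => by
      rw [Matrix.trace_smul, h.toFrame.trace_prodOf, if_neg (lab5_q k).2, smul_zero]

/-- The action on the five coordinates. -/
theorem exists_action (h : FrameIn R a b c d) :
    ∃ Φ : spGL 2 F →* O F 5, ∀ (g : spGL 2 F) x, comb a b c d ((Φ g).1 x) =
      (g.1 : Matrix I4 I4 F) * comb a b c d x * ((g.1⁻¹ : GL I4 F) : Matrix I4 I4 F) := by
  obtain ⟨act, hact⟩ : ∃ act : spGL 2 F → ((Fin 5 → F) →ₗ[F] (Fin 5 → F)), ∀ g x, comb a b c d (act g x) =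
      (g.1 : Matrix I4 I4 F) * comb a b c d x * ((g.1⁻¹ : GL I4 F) : Matrix I4 I4 F) :=
    ⟨fun g => (crd a b c d).comp (((LinearMap.mulRight F ((g.1⁻¹ : GL I4 F) : Matrix I4 I4 F)).comp
      (LinearMap.mulLeft F (g.1 : Matrix I4 I4 F))).comp (comb a b c d)), fun g x => conj_adjoint hR h g x⟩
  have hmul : ∀ g k x, act g (act k x) = act (g * k) x := fun g k x => comb_injective h (by
    rw [hact, hact, hact, Subgroup.coe_mul, _root_.mul_inv_rev, Units.val_mul, Units.val_mul]
    simp only [mul_assoc])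
  have hone : ∀ x, act 1 x = x := fun x => comb_injective h (by
    rw [hact, Subgroup.coe_one, inv_one, Units.val_one, one_mul, mul_one])
  have hiso : ∀ g x, act g x ⬝ᵥ act g x = x ⬝ᵥ x := by
    intro g x
    have e1 := comb_sq h (act g x)
    rw [hact, show (g.1 : Matrix I4 I4 F) * comb a b c d x * ((g.1⁻¹ : GL I4 F) : Matrix I4 I4 F) *
        ((g.1 : Matrix I4 I4 F) * comb a b c d x * ((g.1⁻¹ : GL I4 F) : Matrix I4 I4 F)) =
        (g.1 : Matrix I4 I4 F) * (comb a b c d x * comb a b c d x) * ((g.1⁻¹ : GL I4 F) : Matrix I4 I4 F) by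
      simp only [mul_assoc]; simp only [← mul_assoc ((g.1⁻¹ : GL I4 F) : Matrix I4 I4 F) (g.1 : Matrix I4 I4 F),
        Units.inv_mul, one_mul], comb_sq h, Matrix.mul_smul, mul_one, Matrix.smul_mul, Units.mul_inv] at e1
    have e2 := congrFun (congrFun e1 (Sum.inl 0)) (Sum.inl 0)
    simp at e2
    exact e2.symm
  refine ⟨MonoidHom.mk' (fun g => (⟨{ act g with
      invFun := act g⁻¹
      left_inv := fun x => by
        show act g⁻¹ (act g x) = x
        rw [hmul, inv_mul_cancel, hone]
      right_inv := fun x => by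
        show act g (act g⁻¹ x) = x
        rw [hmul, mul_inv_cancel, hone] }, fun x => by
      rw [std_apply, std_apply]; exact hiso g x⟩ : O F 5))
    (fun g k => Subtype.ext (LinearEquiv.ext fun x => (hmul g k x).symm)), hact⟩

omit hR in
theorem comb_e (k : Fin 5) : comb a b c d (e k) = prodOf a b c d (lab5 k) := by
  show ∑ j, (e k : Fin 5 → F) j • prodOf a b c d (lab5 j) = _
  rw [Finset.sum_eq_single k]
  · rw [e_same, one_smul]
  · intro j _ hj; rw [e_ne hj, zero_smul]
  · simp

/-- The normaliser of a group of minus type of order thirty-two is maximal in `Sp₄(p)`. -/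
theorem symp_maximal (hp : (Fintype.card F).Prime) (h2 : (2 : F) ≠ 0) (hST : IsSymplecticTypeGroup 2 R)
    (habs : ActsAbsolutelyIrreducibly (matrixSet R)) (hR5 : Nat.card R = 32)
    (hRZ : Nat.card (Subgroup.center R) = 2) (hm : IsOfMinusType 2 R) :
    IsMaximalIn (spGL 2 F) (subgroupNormalizer R ⊓ spGL 2 F) := by
  classical
  haveI : Finite R := Nat.finite_of_card_ne_zero (by rw [hR5]; norm_num)
  obtain ⟨a, b, c, d, h⟩ := (Cfsg.Agent.S6002.symFour h2 R hST habs (by rw [hR5]; norm_num) hRZ).exists_std_of_minus hm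
  obtain ⟨Φ, hΦ⟩ := exists_action hR h
  have hq : 3 ≤ Fintype.card F := by
    rcases hp.eq_two_or_odd with e' | e'
    · haveI : CharP F 2 := charP_of_card_eq_prime (hp := ⟨Nat.prime_two⟩) e'
      exact absurd (CharTwo.two_eq_zero (R := F)) h2
    · have := hp.two_le; omega
  have hperf : commutator (spGL 2 F) = ⊤ := by
    have h1 := congrArg (Subgroup.map (spGLEquiv (F := F) 2).toMonoidHom) (sp_perfect 2 (Or.inr (Or.inl ⟨rfl, hq⟩)))
    rw [commutator_def, Subgroup.map_commutator, Subgroup.map_top_of_surjective _ (spGLEquiv (F := F) 2).surjective] at h1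
    rwa [commutator_def]
  have hcard : Nat.card (spGL 2 F) = 2 * Nat.card (commutator (O F 5)) := by
    rw [card_commutator_five h2 rfl, ← Nat.card_congr ((spEquiv (F := F) 2).symm.trans (spGLEquiv 2)).toEquiv,
      card_isom_alt (sympBil_isAlt 2) (sympBil_nondegenerate 2) 2 (by simp [Module.finrank_pi]),
      Finset.prod_range_succ, Finset.prod_range_one]
    norm_num
  -- the kernel
  have hscal : ∀ g : spGL 2 F, Φ g = 1 → ∃ s : F, s * s = 1 ∧ (g.1 : Matrix I4 I4 F) = s • 1 := by
    intro g hg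
    have hc : ∀ k, (g.1 : Matrix I4 I4 F) * prodOf a b c d (lab5 k) = prodOf a b c d (lab5 k) * g.1 := fun k => by
      have := hΦ g (e k)
      rw [hg, one_apply', comb_e] at this
      conv_rhs => rw [this, mul_assoc, Units.inv_mul, mul_one]
    have ea : prodOf a b c d (lab5 0) = a := (prodOf_gens a b c d).1
    have eb : prodOf a b c d (lab5 1) = b := (prodOf_gens a b c d).2.1
    have ec : prodOf a b c d (lab5 2) = a * b * c := by simp [lab5, prodOf, pairProd, mul_assoc]
    have ed : prodOf a b c d (lab5 3) = a * b * d := by simp [lab5, prodOf, pairProd, mul_assoc]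
    have hab : a * b * (a * b) = -1 := by
      rw [mul_assoc, ← mul_assoc b, h.ab, neg_mul, mul_assoc a b b, h.bb, mul_one, mul_neg, h.aa]
    have ga : (g.1 : Matrix I4 I4 F) * a = a * g.1 := by have := hc 0; rwa [ea] at this
    have gb : (g.1 : Matrix I4 I4 F) * b = b * g.1 := by have := hc 1; rwa [eb] at this
    have gab : (g.1 : Matrix I4 I4 F) * (a * b) = a * b * g.1 := by rw [← mul_assoc, ga, mul_assoc, gb, ← mul_assoc]
    have cancel : ∀ {Z : Matrix I4 I4 F}, (g.1 : Matrix I4 I4 F) * (a * b * Z) = a * b * Z * g.1 →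
        (g.1 : Matrix I4 I4 F) * Z = Z * g.1 := by
      intro Z hZ
      calc (g.1 : Matrix I4 I4 F) * Z = -((a * b) * ((a * b) * g.1) * Z) := by
            rw [← mul_assoc (a * b), hab, neg_one_mul, neg_mul, neg_neg]
        _ = -((a * b) * ((g.1 : Matrix I4 I4 F) * (a * b * Z))) := by rw [← gab]; simp only [mul_assoc]
        _ = -((a * b) * (a * b) * (Z * g.1)) := by rw [hZ]; simp only [mul_assoc]
        _ = Z * g.1 := by rw [hab, neg_one_mul, neg_neg]
    obtain ⟨s, hs⟩ := h.toFrame.commutant (g.1 : Matrix I4 I4 F) (h.toFrame.comm_all ga gb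
      (cancel (by have := hc 2; rwa [ec] at this)) (cancel (by have := hc 3; rwa [ed] at this)))
    exact ⟨s, scalar_sq_of_mem_sp hs g.2, hs⟩
  have hminus : ∃ z ∈ R, (z : Matrix I4 I4 F) = -1 := by
    obtain ⟨z, hz, ez⟩ := mem_mul h.mc h.mc
    exact ⟨z, hz, ez.trans h.cc⟩
  refine pullback_maximal hp h2 (Or.inl rfl) hperf hR Φ hcard.ge ?_ ?_ ?_ ?_
  · let χ : Φ.ker → ({1, -1} : Set F) := fun g => ⟨(g.1.1 : Matrix I4 I4 F) (Sum.inl 0) (Sum.inl 0), by
      obtain ⟨s, hs, e'⟩ := hscal g.1 g.2
      rw [e']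
      rcases mul_self_eq_one_iff.1 hs with rfl | rfl <;> simp⟩
    refine (Nat.card_le_card_of_injective χ fun g g' hgg => ?_).trans ?_
    · obtain ⟨s, -, e'⟩ := hscal g.1 g.2
      obtain ⟨s', -, e''⟩ := hscal g'.1 g'.2
      have := congrArg Subtype.val hgg
      simp [χ, e', e''] at this
      exact Subtype.ext (Subtype.ext (Units.ext (by rw [e', e'', this])))
    · rw [Nat.card_coe_set_eq]
      exact (Set.ncard_insert_le _ _).trans (by simp)
  · intro g hg
    obtain ⟨s, hs, e'⟩ := hscal g hg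
    rcases mul_self_eq_one_iff.1 hs with rfl | rfl
    · rw [show (g : GL I4 F) = 1 from Units.ext (by rw [e', one_smul]; rfl)]; exact R.one_mem
    · obtain ⟨z, hz, ez⟩ := hminus
      rw [show (g : GL I4 F) = z from Units.ext (by rw [e', ez, neg_one_smul])]; exact hz
  · intro r hr k
    obtain ⟨v, s, e'⟩ := h.cover (r : Matrix I4 I4 F) ⟨r, hr, rfl⟩
    refine ⟨bitSgn (omega v (lab5 k)), comb_injective h ?_⟩
    rw [hΦ, map_smul, comb_e]
    show (r : Matrix I4 I4 F) * _ * ((r⁻¹ : GL I4 F) : Matrix I4 I4 F) = _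
    rw [e', Matrix.smul_mul, h.toFrame.comm_label v (lab5 k), smul_comm, ← Matrix.mul_smul, ← e', Matrix.smul_mul,
      mul_assoc, Units.mul_inv, mul_one]
  · intro S hS
    obtain ⟨v, hv⟩ := lab5_signs S hS
    obtain ⟨r, hr, e''⟩ := prodOf_mem h v
    have e' : (r : Matrix I4 I4 F) = prodOf a b c d v := e''
    refine ⟨r, hr, ext_e fun k => comb_injective h ?_⟩
    rw [hΦ, flips_e, map_smul, comb_e]
    show (r : Matrix I4 I4 F) * _ * ((r⁻¹ : GL I4 F) : Matrix I4 I4 F) = _
    have h' := h.toFrame.comm_label v (lab5 k)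
    rw [← e'] at h'
    rw [h', Matrix.smul_mul, mul_assoc, Units.mul_inv, mul_one, hv k, bitSgn]
    split_ifs <;> simp_all

end CfsgLib.Classical.PauliFour
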