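import Cfsg.Agent.Lib.Classical.PauliFour.SU
import Cfsg.Agent.Lib.Classical.PauliFour.Symp

/-!
# The symplectic-type clauses of the geometric maximal subgroups in degree four
-/

set_option autoImplicit false

namespace CfsgLib.Classical.PauliFour

open Cfsg Cfsg.Geo
open scoped MatrixGroups

variable {F : Type*} [Field F] [Fintype F]

theorem sl4_symplectic_type : ∀ (p : ℕ) (R : Subgroup (Matrix.GeneralLinearGroup (Fin 4) F)), p.Prime →
    Fintype.card F = p → p % 4 = 1 → IsLinearSymplecticTypeData 2 R →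
    IsMaximalIn (specialLinear (Fin 4) F) (subgroupNormalizer R ⊓ specialLinear (Fin 4) F) :=
  fun _ _ hp hF h4 hR => linear_maximal hp hF h4 hR

theorem su4_symplectic_type {q : ℕ} (hF : Fintype.card F = q ^ 2) :
    ∀ (p : ℕ) (R : Subgroup (Matrix.GeneralLinearGroup (Fin 4) F)), p.Prime → q = p → p % 4 = 3 →
    IsSymplecticTypeGroup 2 R → ActsAbsolutelyIrreducibly (matrixSet R) → R ≤ Cfsg.GU 4 F q → Nat.card R = 64 →
    Nat.card (Subgroup.center R) = 4 →
    IsMaximalIn (Cfsg.GU 4 F q ⊓ specialLinear (Fin 4) F)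
      (subgroupNormalizer R ⊓ (Cfsg.GU 4 F q ⊓ specialLinear (Fin 4) F)) := by
  rintro p R hp rfl h4 hST habs hRU hR6 hZ
  exact unitary_maximal hp hF h4 hST habs hRU hR6 hZ

theorem sp4_symplectic_type (hodd : Odd (Fintype.card F)) :
    ∀ (p : ℕ) (R : Subgroup (Matrix.GeneralLinearGroup (Fin 2 ⊕ Fin 2) F)), p.Prime → Fintype.card F = p →
    IsSymplecticTypeGroup 2 R → ActsAbsolutelyIrreducibly (matrixSet R) → R ≤ Cfsg.spGL 2 F → Nat.card R = 32 →
    Nat.card (Subgroup.center R) = 2 → IsOfMinusType 2 R →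
    IsMaximalIn (Cfsg.spGL 2 F) (subgroupNormalizer R ⊓ Cfsg.spGL 2 F) := by
  intro p R hp hF hST habs hRU hR5 hZ hm
  exact symp_maximal hRU (hF ▸ hp) (Ring.two_ne_zero fun h => by
    have := FiniteField.even_card_of_char_two h
    rw [Nat.odd_iff] at hodd
    omega) hST habs hR5 hZ hm

end CfsgLib.Classical.PauliFour
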