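import Cfsg.Agent.Lib.Classical.PauliFour.Six
import Cfsg.Agent.Lib.Classical.Clifford4.Extract

/-!
# The standard frame in degree four and its signs on the six coordinates
-/

set_option autoImplicit false
set_option linter.unusedSectionVars false

namespace CfsgLib.Classical.PauliFour

open Module Matrix Cfsg Cfsg.Geo CfsgLib.Classical.LowRank CfsgLib.Classical.Clifford4
open scoped MatrixGroups

variable {K : Type*} [Field K]

/-- The first involution. -/
def mA : Matrix (Fin 4) (Fin 4) K := diagonal ![1, -1, 1, -1]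

/-- The second involution. -/
def mB : Matrix (Fin 4) (Fin 4) K := !![0, 1, 0, 0; 1, 0, 0, 0; 0, 0, 0, 1; 0, 0, 1, 0]

/-- The first square root of minus one. -/
def mC (i : K) : Matrix (Fin 4) (Fin 4) K := diagonal ![-i, -i, i, i]

/-- The second square root of minus one. -/
def mD : Matrix (Fin 4) (Fin 4) K := !![0, 0, -1, 0; 0, 0, 0, -1; 1, 0, 0, 0; 0, 1, 0, 0]

/-- The signs of the products on the six coordinates. -/
def sgn6 (v : Lab) (k : Fin 6) : ZMod 2 :=
  v.1.1 * ![1, 1, 0, 0, 1, 1] k + v.1.2 * ![1, 1, 1, 0, 0, 1] k +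
    (v.2.1 * ![1, 1, 0, 0, 0, 0] k + v.2.2 * ![0, 1, 0, 0, 0, 1] k)

theorem sgn6_cover : ∀ S : Finset (Fin 6), Even S.card →
    ∃ (v : Lab) (ε : ZMod 2), ∀ k, sgn6 v k + ε = if k ∈ S then 1 else 0 := by decide +kernel

theorem klein_if (t : ZMod 2) (M : Matrix (Fin 4) (Fin 4) K) (s : Fin 6 → ZMod 2) (i : K)
    (hM : ∀ x, klein M (sixVec i x) = sixVec i fun k => bitSgn (s k) * x k) (x : Fin 6 → K) :
    klein (if t = 0 then 1 else M) (sixVec i x) = sixVec i fun k => bitSgn (t * s k) * x k := by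
  rcases z2_cases t with rfl | rfl
  · rw [if_pos rfl, klein_one]; simp [bitSgn]
  · rw [if_neg one_ne_zero, hM]; simp

theorem klein_smul (s : K) (M : Matrix (Fin 4) (Fin 4) K) (v : Fin 3 ⊕ Fin 3 → K) :
    klein (s • M) v = (s * s) • klein M v := by
  show altRead (s • M * altMat v * (s • M)ᵀ) = _
  rw [Matrix.transpose_smul, Matrix.smul_mul, Matrix.smul_mul, Matrix.mul_smul, smul_smul]
  funext k
  show altRead _ k = (s * s) * altRead (M * altMat v * Mᵀ) k
  rcases k with k | k <;> fin_cases k <;> simp [altRead]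

variable {i : K}

set_option maxHeartbeats 2000000 in
theorem klein_mA (x : Fin 6 → K) :
    klein mA (sixVec i x) = sixVec i fun k => bitSgn (![1, 1, 0, 0, 1, 1] k) * x k := by
  funext k
  rcases k with k | k <;> fin_cases k <;>
    simp [klein, mA, altRead, altMat, sixVec, bitSgn, Matrix.mul_apply, Fin.sum_univ_four, Matrix.diagonal] <;> ring

set_option maxHeartbeats 2000000 in
theorem klein_mB (x : Fin 6 → K) :
    klein mB (sixVec i x) = sixVec i fun k => bitSgn (![1, 1, 1, 0, 0, 1] k) * x k := by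
  funext k
  rcases k with k | k <;> fin_cases k <;>
    simp [klein, mB, altRead, altMat, sixVec, bitSgn, Matrix.mul_apply, Fin.sum_univ_four] <;> ring

set_option maxHeartbeats 2000000 in
theorem klein_mC (hi : i * i = -1) (x : Fin 6 → K) :
    klein (mC i) (sixVec i x) = sixVec i fun k => bitSgn (![1, 1, 0, 0, 0, 0] k) * x k := by
  funext k
  rcases k with k | k <;> fin_cases k <;>
    simp [klein, mC, altRead, altMat, sixVec, bitSgn, Matrix.mul_apply, Fin.sum_univ_four, Matrix.diagonal] <;>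
    grind

set_option maxHeartbeats 2000000 in
theorem klein_mD (x : Fin 6 → K) :
    klein mD (sixVec i x) = sixVec i fun k => bitSgn (![0, 1, 0, 0, 0, 1] k) * x k := by
  funext k
  rcases k with k | k <;> fin_cases k <;>
    simp [klein, mD, altRead, altMat, sixVec, bitSgn, Matrix.mul_apply, Fin.sum_univ_four] <;> ring

theorem klein_prod (hi : i * i = -1) (v : Lab) (x : Fin 6 → K) :
    klein (prodOf mA mB (mC i) mD v) (sixVec i x) = sixVec i fun k => bitSgn (sgn6 v k) * x k := by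
  rw [prodOf, pairProd, pairProd, klein_mul, klein_mul, klein_mul,
    klein_if _ _ _ i klein_mD, klein_if _ _ _ i (klein_mC hi), klein_if _ _ _ i klein_mB,
    klein_if _ _ _ i klein_mA]
  congr 1
  funext k
  simp only [sgn6, bitSgn_add]
  ring

section Normal

variable {R : Subgroup (GL (Fin 4) K)} {a b c d : Matrix (Fin 4) (Fin 4) K}

/-- A frame is conjugate to the standard one. -/
theorem exists_basis (h : Std a b c d) (hi : i * i = -1) :
    ∃ P : GL (Fin 4) K, ∀ v, prodOf a b c d v * (P : Matrix (Fin 4) (Fin 4) K) =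
      (P : Matrix (Fin 4) (Fin 4) K) * prodOf mA mB (mC i) mD v := by
  classical
  -- a common eigenvector
  set E : Matrix (Fin 4) (Fin 4) K := (1 + a) * (1 + i • c) with hE
  have hEne : E ≠ 0 := by
    intro h0
    have := congrArg Matrix.trace h0
    have ea : a.trace = 0 := by
      have := h.toFrame.trace_prodOf ((1, 0), 0, 0)
      rwa [(prodOf_gens a b c d).1, if_neg (by decide)] at this
    have ec : c.trace = 0 := by
      have := h.toFrame.trace_prodOf ((0, 0), 1, 0)
      rwa [(prodOf_gens a b c d).2.2.1, if_neg (by decide)] at this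
    have eac : (a * c).trace = 0 := by
      have := h.toFrame.trace_prodOf ((1, 0), 1, 0)
      rw [if_neg (by decide)] at this
      simpa [prodOf, pairProd] using this
    simp [hE, add_mul, mul_add, Matrix.trace_add, ea, ec, eac, h.card] at this
    exact h.toFrame.four_ne_zero this
  obtain ⟨u, hu⟩ : ∃ u, E *ᵥ u ≠ 0 := by
    by_contra h'
    push Not at h'
    exact hEne (Matrix.ext_of_mulVec_single fun k => by rw [h', Matrix.zero_mulVec])
  set w := E *ᵥ u with hw
  have hic : (i • c) * (i • c) = 1 := by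
    rw [Matrix.smul_mul, Matrix.mul_smul, smul_smul, hi, h.cc, neg_one_smul, neg_neg]
  have haw : a *ᵥ w = w := by
    rw [hw, Matrix.mulVec_mulVec, hE, ← mul_assoc, show a * (1 + a) = 1 + a by rw [mul_add, mul_one, h.aa, add_comm]]
  have hacomm : (i • c) * (1 + a) = (1 + a) * (i • c) := by
    rw [mul_add, add_mul, mul_one, one_mul, Matrix.smul_mul, Matrix.mul_smul, h.ac]
  have hicw : (i • c) *ᵥ w = w := by
    rw [hw, Matrix.mulVec_mulVec, hE, ← mul_assoc, hacomm, mul_assoc,
      show (i • c) * (1 + i • c) = 1 + i • c by rw [mul_add, mul_one, hic, add_comm]]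
  have hcw : c *ᵥ w = (-i) • w := by
    conv_rhs => rw [← hicw, Matrix.smul_mulVec, smul_smul, neg_mul, hi, neg_neg, one_smul]
  set col : Fin 4 → Fin 4 → K := ![w, b *ᵥ w, d *ᵥ w, b *ᵥ (d *ᵥ w)] with hcol
  set P₀ : Matrix (Fin 4) (Fin 4) K := Matrix.of fun r k => col k r with hP₀
  have hP : ∀ k, P₀ *ᵥ Pi.single k 1 = col k := fun k => by rw [Matrix.mulVec_single_one]; rfl
  have hmul : ∀ (X M : Matrix (Fin 4) (Fin 4) K),
      (∀ k, X *ᵥ col k = ∑ l, M l k • col l) → X * P₀ = P₀ * M := by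
    intro X M hX
    refine Matrix.ext_of_mulVec_single fun k => ?_
    rw [← Matrix.mulVec_mulVec, ← Matrix.mulVec_mulVec, hP, hX, Matrix.mulVec_single_one]
    funext r
    simp [Matrix.mulVec, dotProduct, hP₀, mul_comm]
  have mab : a * b = -(b * a) := by rw [h.ab, neg_neg]
  have e1 : ∀ {X Y : Matrix (Fin 4) (Fin 4) K}, X * Y = -(Y * X) → ∀ z, X *ᵥ (Y *ᵥ z) = -(Y *ᵥ (X *ᵥ z)) :=
    fun hXY z => by rw [Matrix.mulVec_mulVec, hXY, Matrix.neg_mulVec, Matrix.mulVec_mulVec]
  have e2 : ∀ {X Y : Matrix (Fin 4) (Fin 4) K}, X * Y = Y * X → ∀ z, X *ᵥ (Y *ᵥ z) = Y *ᵥ (X *ᵥ z) :=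
    fun hXY z => by rw [Matrix.mulVec_mulVec, hXY, Matrix.mulVec_mulVec]
  have e3 : ∀ {X : Matrix (Fin 4) (Fin 4) K}, X * X = 1 → ∀ z, X *ᵥ (X *ᵥ z) = z :=
    fun hX z => by rw [Matrix.mulVec_mulVec, hX, Matrix.one_mulVec]
  have e4 : ∀ {X : Matrix (Fin 4) (Fin 4) K}, X * X = -1 → ∀ z, X *ᵥ (X *ᵥ z) = -z :=
    fun hX z => by rw [Matrix.mulVec_mulVec, hX, Matrix.neg_mulVec, Matrix.one_mulVec]
  have hcd : c * d = -(d * c) := by rw [h.cd, neg_neg]
  have PA : a * P₀ = P₀ * mA := hmul _ _ fun k => by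
    fin_cases k <;>
      simp [hcol, -Matrix.mulVec_mulVec, Fin.sum_univ_four, mA, Matrix.diagonal, haw, e1 mab, e2 h.ad.symm, Matrix.mulVec_neg]
  have PB : b * P₀ = P₀ * mB := hmul _ _ fun k => by
    fin_cases k <;> simp [hcol, -Matrix.mulVec_mulVec, Fin.sum_univ_four, mB, e3 h.bb]
  have PC : c * P₀ = P₀ * mC i := hmul _ _ fun k => by
    fin_cases k <;>
      simp [hcol, -Matrix.mulVec_mulVec, Fin.sum_univ_four, mC, Matrix.diagonal, hcw, e1 hcd, e2 h.bc, Matrix.mulVec_neg, Matrix.mulVec_smul]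
  have PD : d * P₀ = P₀ * mD := hmul _ _ fun k => by
    fin_cases k <;> simp [hcol, -Matrix.mulVec_mulVec, Fin.sum_univ_four, mD, e2 h.bd, e4 h.dd, Matrix.mulVec_neg]
  have hpair : ∀ {X Y M N : Matrix (Fin 4) (Fin 4) K}, X * P₀ = P₀ * M → Y * P₀ = P₀ * N →
      ∀ v, pairProd X Y v * P₀ = P₀ * pairProd M N v := by
    intro X Y M N hX hY v
    rw [pairProd, pairProd]
    split_ifs
    · simp
    · rw [one_mul, one_mul, hY]
    · rw [mul_one, mul_one, hX]
    · rw [mul_assoc, hY, ← mul_assoc, hX, mul_assoc]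
  have hall : ∀ v, prodOf a b c d v * P₀ = P₀ * prodOf mA mB (mC i) mD v := fun v => by
    rw [prodOf, prodOf, mul_assoc, hpair PC PD, ← mul_assoc, hpair PA PB, mul_assoc]
  have hsurj : Function.Surjective fun z => P₀ *ᵥ z := by
    intro y
    obtain ⟨k, hk⟩ : ∃ k, w k ≠ 0 := by
      by_contra h'
      push Not at h'
      exact hu (funext h')
    set X : Matrix (Fin 4) (Fin 4) K := vecMulVec y (Pi.single k (w k)⁻¹) with hX
    have hXw : X *ᵥ w = y := by
      funext r
      simp [hX, Matrix.mulVec, dotProduct, vecMulVec, Pi.single_apply, hk]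
    obtain ⟨co, hco⟩ := (Submodule.mem_span_range_iff_exists_fun K).1
      (show X ∈ Submodule.span K (Set.range (prodOf a b c d)) from h.toFrame.span_eq_top ▸ Submodule.mem_top)
    refine ⟨(∑ v, co v • prodOf mA mB (mC i) mD v) *ᵥ Pi.single 0 1, ?_⟩
    show P₀ *ᵥ _ = y
    rw [Matrix.mulVec_mulVec, Finset.mul_sum]
    conv_rhs => rw [← hXw, ← hco, show w = P₀ *ᵥ Pi.single 0 1 from (hP 0).symm, Matrix.mulVec_mulVec, Finset.sum_mul]
    congr 1
    exact Finset.sum_congr rfl fun v _ => by rw [Matrix.smul_mul, hall, Matrix.mul_smul]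
  obtain ⟨P, hPu⟩ := Matrix.mulVec_surjective_iff_isUnit.1 hsurj
  exact ⟨P, fun v => by rw [hPu]; exact hall v⟩

end Normal

end CfsgLib.Classical.PauliFour
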