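import Cfsg.Prelude.Def_GeometricClasses
import Cfsg.Agent.Lib.Classical.FrameMax.SmallMain

/-!
# Normalisers pulled back from the monomial group of five or six squares
-/

set_option autoImplicit false
set_option linter.unusedSectionVars false

namespace CfsgLib.Classical.PauliFour

open Module Matrix CfsgLib.Orth CfsgLib.Classical.FrameMax

variable {F : Type*} [Field F] [Fintype F] {n : ℕ}

theorem det'_flips (h2 : (2 : F) ≠ 0) (S : Finset (Fin n)) :
    (det' (flips S : O F n) : F) = (-1) ^ S.card := by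
  classical
  induction S using Finset.induction with
  | empty => rw [flips_empty, map_one, Units.val_one, Finset.card_empty, pow_zero]
  | insert a S ha ih =>
    have e1 : (flips (insert a S) : O F n) = flips {a} * flips S := by
      rw [flips_mul]
      congr 1
      ext i
      simp only [Finset.mem_sdiff, Finset.mem_union, Finset.mem_inter, Finset.mem_insert, Finset.mem_singleton]
      refine ⟨fun h => ⟨h, fun h' => ha (h'.1 ▸ h'.2)⟩, fun h => h.1⟩
    rw [e1, map_mul, Units.val_mul, ih, Finset.card_insert_of_notMem ha, ← refl_e h2 a,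
      det'_refl (by rw [std_e]; exact one_ne_zero), pow_succ']

/-- A diagonal element of determinant one changes an even number of signs. -/
theorem diag_eq_flips (h2 : (2 : F) ≠ 0) {g : O F n} (hg : g ∈ (Diag : Subgroup (O F n)))
    (hc : g ∈ commutator (O F n)) : ∃ S : Finset (Fin n), Even S.card ∧ g = flips S := by
  classical
  choose c hc' using hg
  set S : Finset (Fin n) := Finset.univ.filter fun i => c i ≠ 1 with hS
  have hgS : g = flips S := ext_e fun i => by
    rw [hc' i, flips_e]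
    congr 1
    by_cases h : c i = 1
    · rw [if_neg (by simp [hS, h]), h]
    · rw [if_pos (by simp [hS, h]), (mul_self_eq_one_iff.1 (coord_sq g (hc' i))).resolve_left h]
  refine ⟨S, ?_, hgS⟩
  have h1 := det'_commutator hc
  rw [hgS] at h1
  have h3 := det'_flips h2 S
  rw [h1, Units.val_one] at h3
  rcases Nat.even_or_odd S.card with he | ho
  · exact he
  · rw [ho.neg_one_pow] at h3
    exact absurd (show (2 : F) = 0 by linear_combination h3) h2

/-- Whatever carries the even sign changes to diagonal isometries is monomial. -/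
theorem mon_of_conj_diag (h2 : (2 : F) ≠ 0) (hn : 3 ≤ n) {g : O F n}
    (h : ∀ S : Finset (Fin n), Even S.card → g⁻¹ * flips S * g ∈ (Diag : Subgroup (O F n))) :
    g ∈ (Mon : Subgroup (O F n)) := by
  classical
  intro k
  by_contra hk
  push Not at hk
  obtain ⟨i, hi⟩ : ∃ i, g.1 (e k) i ≠ 0 := by
    by_contra h'
    push Not at h'
    have := std_map g (e k)
    rw [show g.1 (e k) = 0 from funext h', zero_dotProduct, e_dot, e_same] at this
    exact zero_ne_one this
  obtain ⟨j, hji, hj⟩ : ∃ j, j ≠ i ∧ g.1 (e k) j ≠ 0 := by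
    by_contra h'
    push Not at h'
    exact hk i _ (eq_smul_e h')
  obtain ⟨z, hz⟩ := exists_avoid ({i, j} : Finset (Fin n))
    (by have : ({i, j} : Finset (Fin n)).card ≤ 2 := Finset.card_le_two; omega)
  simp only [Finset.mem_insert, Finset.mem_singleton, not_or] at hz
  obtain ⟨c, hc⟩ := h {i, z} (by rw [Finset.card_pair (Ne.symm hz.1)]; exact even_two) k
  have e1 : (flips {i, z} : O F n).1 (g.1 (e k)) = c • g.1 (e k) := by
    have := congrArg g.1 hc
    rwa [FrameMax.mul_apply', FrameMax.mul_apply', apply_inv', map_smul] at this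
  have ei := congrFun e1 i
  have ej := congrFun e1 j
  rw [flips_apply, if_pos (Finset.mem_insert_self _ _), Pi.smul_apply, smul_eq_mul] at ei
  rw [flips_apply, if_neg (by simp [hji, Ne.symm hz.2]), Pi.smul_apply, smul_eq_mul] at ej
  have c1 : c = 1 := mul_right_cancel₀ hj (by rw [one_mul]; exact ej.symm)
  rw [c1, one_mul] at ei
  exact hi ((mul_eq_zero.1 (show 2 * g.1 (e k) i = 0 by linear_combination -ei)).resolve_left h2)

/-- The image of a perfect group of twice the order of `Ω` is `Ω`, and normalisers of preimages of the sign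
changes are maximal. -/
theorem pullback_maximal {G : Type*} [Group G] [Finite G] (hp : (Fintype.card F).Prime) (h2 : (2 : F) ≠ 0)
    (hn : n = 5 ∨ n = 6) {K R : Subgroup G} (hperf : commutator K = ⊤) (hRK : R ≤ K) (Φ : K →* O F n)
    (hcard : 2 * Nat.card (commutator (O F n)) ≤ Nat.card K) (hker : Nat.card Φ.ker ≤ 2)
    (hkerR : ∀ k : K, Φ k = 1 → (k : G) ∈ R)
    (hdiag : ∀ r (hr : r ∈ R), Φ ⟨r, hRK hr⟩ ∈ (Diag : Subgroup (O F n)))
    (hflips : ∀ S : Finset (Fin n), Even S.card → ∃ r, ∃ hr : r ∈ R, Φ ⟨r, hRK hr⟩ = flips S) :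
    Cfsg.Geo.IsMaximalIn K (Subgroup.normalizer (R : Set G) ⊓ K) := by
  classical
  have h5 : 5 ≤ n := by rcases hn with e' | e' <;> omega
  have hcomm : Φ.range ≤ commutator (O F n) := by
    rw [MonoidHom.range_eq_map, ← hperf, commutator_def, commutator_def, Subgroup.map_commutator]
    exact Subgroup.commutator_mono le_top le_top
  have hrange : Φ.range = commutator (O F n) := by
    refine Subgroup.eq_of_le_of_card_ge hcomm ?_
    have e1 : Nat.card K = Nat.card Φ.range * Nat.card Φ.ker := by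
      rw [← Nat.card_congr (QuotientGroup.quotientKerEquivRange Φ).toEquiv]
      exact Subgroup.card_eq_card_quotient_mul_card_subgroup _
    have e2 : Nat.card Φ.range * Nat.card Φ.ker ≤ Nat.card Φ.range * 2 := Nat.mul_le_mul_left _ hker
    omega
  have hΦc : ∀ k : K, Φ k ∈ commutator (O F n) := fun k => hcomm ⟨k, rfl⟩
  -- elements of the normaliser are monomial
  have hNmon : ∀ k : K, (k : G) ∈ Subgroup.normalizer (R : Set G) → Φ k ∈ (Mon : Subgroup (O F n)) := by
    intro k hk
    refine mon_of_conj_diag h2 (by omega) fun S hS => ?_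
    obtain ⟨r, hr, hrS⟩ := hflips S hS
    have hmem : (k : G)⁻¹ * r * k ∈ R := by
      have := (Subgroup.mem_normalizer_iff.1 (Subgroup.inv_mem _ hk) r).1 hr
      rwa [inv_inv] at this
    have := hdiag _ hmem
    rwa [show (⟨(k : G)⁻¹ * r * k, hRK hmem⟩ : K) = k⁻¹ * ⟨r, hRK hr⟩ * k from Subtype.ext rfl, map_mul, map_mul,
      map_inv, hrS] at this
  -- monomial elements normalise
  have hmonN : ∀ k : K, Φ k ∈ (Mon : Subgroup (O F n)) → (k : G) ∈ Subgroup.normalizer (R : Set G) := by
    intro k hk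
    have key : ∀ k : K, Φ k ∈ (Mon : Subgroup (O F n)) → ∀ r ∈ R, (k : G) * r * (k : G)⁻¹ ∈ R := by
      intro k hk r hr
      obtain ⟨S, hS, hSk⟩ := diag_eq_flips h2 (diag_conj hk (hdiag r hr))
        (by rw [← map_inv, ← map_mul, ← map_mul]; exact hΦc _)
      obtain ⟨r', hr', hrS⟩ := hflips S hS
      have h1 : Φ (k * ⟨r, hRK hr⟩ * k⁻¹ * (⟨r', hRK hr'⟩ : K)⁻¹) = 1 := by
        rw [map_mul, map_mul, map_mul, map_inv, map_inv, hSk, hrS, mul_inv_cancel]
      have h3 := mul_mem (hkerR _ h1) hr'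
      simpa using h3
    rw [Subgroup.mem_normalizer_iff]
    refine fun r => ⟨key k hk r, fun hr => ?_⟩
    have := key k⁻¹ (by rw [map_inv]; exact inv_mem hk) _ hr
    simpa [mul_assoc] using this
  set N := Subgroup.normalizer (R : Set G) ⊓ K with hN
  refine ⟨lt_of_le_of_ne inf_le_right fun h => ?_, fun M hNM hMK => ?_⟩
  · obtain ⟨x, hx, hxm⟩ := exists_not_mon (F := F) h2 h5
    rw [← hrange] at hx
    obtain ⟨k, rfl⟩ := hx
    exact hxm (hNmon k ((SetLike.ext_iff.1 h (k : G)).2 k.2).1)
  by_cases hall : ∀ m ∈ M, m ∈ N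
  · exact Or.inl (le_antisymm hall hNM)
  push Not at hall
  obtain ⟨g, hg, hgN⟩ := hall
  right
  refine le_antisymm hMK fun x hx => ?_
  let M' : Subgroup K := M.subgroupOf K
  have hle := commutator_le_small hp h2 hn (M'.map Φ) (g := Φ ⟨g, hMK hg⟩)
    (fun S hS => by
      obtain ⟨r, hr, hrS⟩ := hflips S hS
      exact ⟨⟨r, hRK hr⟩, hNM ⟨Subgroup.le_normalizer hr, hRK hr⟩, hrS⟩)
    (fun π hπ => by
      have hc : permO π ∈ Φ.range := hrange ▸ permO_mem_commutator h2 hπ
      obtain ⟨k, hk⟩ := hc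
      exact ⟨k, hNM ⟨hmonN k (hk ▸ permO_mem_mon π), k.2⟩, hk⟩)
    ⟨⟨g, hMK hg⟩, hg, rfl⟩ (hΦc _) (fun h => hgN ⟨hmonN _ h, hMK hg⟩)
  obtain ⟨m, hm, hmx⟩ := hle (hΦc ⟨x, hx⟩)
  have h1 : Φ (m⁻¹ * ⟨x, hx⟩) = 1 := by rw [map_mul, map_inv, hmx, inv_mul_cancel]
  have h3 := hkerR _ h1
  have h4 := M.mul_mem (hm : (m : G) ∈ M) (hNM ⟨Subgroup.le_normalizer h3, (m⁻¹ * ⟨x, hx⟩).2⟩)
  simpa using h4

end CfsgLib.Classical.PauliFour
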