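import Cfsg.Agent.Lib.Classical.PauliFour.Pullback
import Cfsg.Agent.Lib.Classical.LowRank.SixMinus

/-!
# Six orthonormal alternating matrices and the action on their coordinates
-/

set_option autoImplicit false
set_option linter.unusedSectionVars false

namespace CfsgLib.Classical.PauliFour

open Module Matrix CfsgLib.Orth CfsgLib.Classical.FrameMax CfsgLib.Classical.LowRank
open scoped MatrixGroups

variable {K : Type*} [Field K]

/-- The six coordinates inside the Klein space. -/
def sixVec (i : K) (x : Fin 6 → K) : Fin 3 ⊕ Fin 3 → K :=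
  Sum.elim ![x 0 + i * x 1, x 2 + i * x 3, x 4 + i * x 5] ![x 0 - i * x 1, x 2 - i * x 3, x 4 - i * x 5]

theorem sixVec_quad {i : K} (hi : i * i = -1) (x : Fin 6 → K) :
    Cfsg.quadFormPlus 3 K (sixVec i x) = x ⬝ᵥ x := by
  simp [Cfsg.quadFormPlus, sixVec, dotProduct, Fin.sum_univ_six, Fin.sum_univ_three]
  linear_combination -(x 1 * x 1 + x 3 * x 3 + x 5 * x 5) * hi

theorem sixVec_add (i : K) (x y : Fin 6 → K) : sixVec i (x + y) = sixVec i x + sixVec i y := by
  funext k
  rcases k with k | k <;> fin_cases k <;> simp [sixVec] <;> ring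

theorem sixVec_smul (i r : K) (x : Fin 6 → K) : sixVec i (r • x) = r • sixVec i x := by
  funext k
  rcases k with k | k <;> fin_cases k <;> simp [sixVec] <;> ring

/-- The coordinates of a vector of the Klein space. -/
def sixCrd (i : K) (v : Fin 3 ⊕ Fin 3 → K) : Fin 6 → K :=
  ![(v (.inl 0) + v (.inr 0)) / 2, (v (.inl 0) - v (.inr 0)) / (2 * i),
    (v (.inl 1) + v (.inr 1)) / 2, (v (.inl 1) - v (.inr 1)) / (2 * i),
    (v (.inl 2) + v (.inr 2)) / 2, (v (.inl 2) - v (.inr 2)) / (2 * i)]

theorem sixCrd_sixVec {i : K} (hi : i * i = -1) (h2 : (2 : K) ≠ 0) (x : Fin 6 → K) : sixCrd i (sixVec i x) = x := by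
  have hi0 : i ≠ 0 := by rintro rfl; simp at hi
  funext k
  fin_cases k <;> simp [sixCrd, sixVec] <;> field_simp <;> ring

theorem sixVec_sixCrd {i : K} (hi : i * i = -1) (h2 : (2 : K) ≠ 0) (v : Fin 3 ⊕ Fin 3 → K) :
    sixVec i (sixCrd i v) = v := by
  have hi0 : i ≠ 0 := by rintro rfl; simp at hi
  funext k
  rcases k with k | k <;> fin_cases k <;> simp [sixCrd, sixVec] <;> field_simp <;> ring

section Action

variable {F : Type*} [Field F] [Fintype F] (j : F →+* K) {i : K}

/-- A vector with coordinates in the small field. -/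
def realVec (i : K) (x : Fin 6 → F) : Fin 3 ⊕ Fin 3 → K := sixVec i fun k => j (x k)

theorem realVec_injective (hi : i * i = -1) (h2 : (2 : K) ≠ 0) : Function.Injective (realVec j i) := by
  intro x y h
  funext k
  have := congrArg (fun v => sixCrd i v k) h
  simp only [realVec, sixCrd_sixVec hi h2] at this
  exact j.injective this

theorem realVec_add (x y : Fin 6 → F) : realVec j i (x + y) = realVec j i x + realVec j i y := by
  rw [realVec, realVec, realVec, ← sixVec_add]
  congr 1
  funext k
  exact map_add j _ _

theorem realVec_smul (r : F) (x : Fin 6 → F) : realVec j i (r • x) = j r • realVec j i x := by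
  rw [realVec, realVec, ← sixVec_smul]
  congr 1
  funext k
  exact map_mul j _ _

/-- Matrices of determinant one preserving the coordinates in the small field act by isometries on them. -/
theorem exists_six_action (hi : i * i = -1) (h2 : (2 : K) ≠ 0) {S : Type*} [Group S]
    (ρ : S →* Matrix (Fin 4) (Fin 4) K) (hdet : ∀ g, (ρ g).det = 1)
    (hst : ∀ g x, ∃ y, klein (ρ g) (realVec j i x) = realVec j i y) :
    ∃ Φ : S →* O F 6, ∀ g x, realVec j i ((Φ g).1 x) = klein (ρ g) (realVec j i x) := by
  classical
  choose f hf using hst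
  have hinj := realVec_injective j hi h2
  obtain ⟨act, hact⟩ : ∃ act : S → ((Fin 6 → F) →ₗ[F] (Fin 6 → F)),
      ∀ g x, realVec j i (act g x) = klein (ρ g) (realVec j i x) :=
    ⟨fun g =>
      { toFun := f g
        map_add' := fun x y => hinj (by rw [← hf, realVec_add, realVec_add, map_add, hf, hf])
        map_smul' := fun r x => hinj (by rw [RingHom.id_apply, ← hf, realVec_smul, realVec_smul, map_smul, hf]) },
      fun g x => (hf g x).symm⟩
  have hmul : ∀ g k x, act g (act k x) = act (g * k) x := fun g k x => hinj (by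
    rw [hact, hact, hact, map_mul, klein_mul])
  have hone : ∀ x, act 1 x = x := fun x => hinj (by rw [hact, map_one, klein_one])
  have hiso : ∀ g x, act g x ⬝ᵥ act g x = x ⬝ᵥ x := by
    intro g x
    refine j.injective ?_
    have e1 : Cfsg.quadFormPlus 3 K (realVec j i (act g x)) = Cfsg.quadFormPlus 3 K (realVec j i x) := by
      rw [hact]
      show Cfsg.quadFormPlus 3 K (altRead _) = _
      rw [altRead_quad, hdet, one_mul]
    simp only [realVec, sixVec_quad hi] at e1
    simpa [dotProduct, map_sum] using e1
  exact ⟨MonoidHom.mk' (fun g => (⟨{ act g with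
      invFun := act g⁻¹
      left_inv := fun x => by
        show act g⁻¹ (act g x) = x
        rw [hmul, inv_mul_cancel, hone]
      right_inv := fun x => by
        show act g (act g⁻¹ x) = x
        rw [hmul, mul_inv_cancel, hone] }, fun x => by
      rw [std_apply, std_apply]; exact hiso g x⟩ : O F 6))
    (fun g k => Subtype.ext (LinearEquiv.ext fun x => (hmul g k x).symm)), hact⟩

/-- An element acting trivially is a square root of one. -/
theorem scalar_of_trivial (hi : i * i = -1) (h2 : (2 : K) ≠ 0) {A : Matrix (Fin 4) (Fin 4) K} (hA : A.det = 1)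
    (h : ∀ x : Fin 6 → F, klein A (realVec j i x) = realVec j i x) : ∃ c : K, c * c = 1 ∧ A = c • 1 := by
  classical
  have hall : ∀ v, klein A v = v := by
    intro v
    rw [← sixVec_sixCrd hi h2 v]
    set x := sixCrd i v
    have hx : sixVec i x = ∑ k, x k • realVec j i (e k : Fin 6 → F) := by
      let L : (Fin 6 → K) →ₗ[K] (Fin 3 ⊕ Fin 3 → K) :=
        { toFun := sixVec i
          map_add' := sixVec_add i
          map_smul' := sixVec_smul i }
      show L x = _
      conv_lhs => rw [pi_eq_sum_univ' x, map_sum]
      refine Finset.sum_congr rfl fun k _ => ?_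
      rw [map_smul]
      show x k • sixVec i (Pi.single k 1) = x k • sixVec i (fun l => j ((e k : Fin 6 → F) l))
      congr 2
      funext l
      rcases eq_or_ne l k with rfl | hl
      · simp [e_same]
      · simp [e_ne hl, hl]
    rw [hx, map_sum]
    exact Finset.sum_congr rfl fun k _ => by rw [map_smul, h]
  obtain ⟨c, hc, hAc⟩ := (mem_ker_kleinHom_iff (⟨A, hA⟩ : SpecialLinearGroup (Fin 4) K)).1 (by
    refine Subtype.ext (Units.ext ?_)
    show LinearMap.toMatrix' (klein A) = 1
    rw [← LinearMap.toMatrix'_id]
    exact congrArg _ (LinearMap.ext hall))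
  exact ⟨c, by rw [← pow_two]; exact hc, hAc⟩

end Action

/-- The six coordinates carry the Hermitian real structure when conjugation negates `i`. -/
theorem sixVec_real {σ : K →+* K} {i : K} (hσi : σ i = -i) {x : Fin 6 → K} (hx : ∀ k, σ (x k) = x k) :
    ∀ k, σ (sixVec i x k) = sixVec i x k.swap := by
  intro k
  rcases k with k | k <;> fin_cases k <;>
    simp [sixVec, map_add, map_sub, map_mul, hσi, hx] <;> ring

end CfsgLib.Classical.PauliFour
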