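import Cfsg.Agent.Lib.Classical.PauliFour.Model

/-!
# Maximality from a standard frame and a real structure
-/

set_option autoImplicit false
set_option linter.unusedSectionVars false

namespace CfsgLib.Classical.PauliFour

open Module Matrix Cfsg Cfsg.Geo CfsgLib.Orth CfsgLib.Classical.FrameMax CfsgLib.Classical.LowRank
  CfsgLib.Classical.Clifford4
open scoped MatrixGroups

variable {K : Type*} [Field K] [Finite K] {F : Type*} [Field F] [Fintype F] (j : F →+* K) {i : K}

theorem bitSgn_map (x : ZMod 2) : j (bitSgn x : F) = bitSgn x := by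
  unfold bitSgn
  split_ifs <;> simp

/-- The normaliser of a frame group is maximal in a group acting on six real coordinates as `Ω`. -/
theorem six_maximal (hp : (Fintype.card F).Prime) (h2F : (2 : F) ≠ 0) (h2 : (2 : K) ≠ 0) (hi : i * i = -1)
    {Γ R : Subgroup (GL (Fin 4) K)} {a b c d : Matrix (Fin 4) (Fin 4) K} (hf : FrameIn R a b c d)
    (him : i • (1 : Matrix (Fin 4) (Fin 4) K) ∈ matrixSet R) (hRΓ : R ≤ Γ)
    (hdet : ∀ g ∈ Γ, (g : Matrix (Fin 4) (Fin 4) K).det = 1) (hperf : commutator Γ = ⊤)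
    (hcard : 2 * Nat.card (commutator (O F 6)) ≤ Nat.card Γ) (P : GL (Fin 4) K)
    (hP : ∀ v, prodOf a b c d v * (P : Matrix (Fin 4) (Fin 4) K) =
      (P : Matrix (Fin 4) (Fin 4) K) * prodOf mA mB (mC i) mD v)
    (hreal : ∀ g ∈ Γ, ∀ x : Fin 6 → F, ∃ y,
      klein ((P⁻¹ * g * P : GL (Fin 4) K) : Matrix (Fin 4) (Fin 4) K) (realVec j i x) = realVec j i y) :
    IsMaximalIn Γ (subgroupNormalizer R ⊓ Γ) := by
  classical
  haveI : Fintype K := Fintype.ofFinite K
  let ρ : Γ →* Matrix (Fin 4) (Fin 4) K :=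
    { toFun := fun g => ((P⁻¹ * g.1 * P : GL (Fin 4) K) : Matrix (Fin 4) (Fin 4) K)
      map_one' := by simp
      map_mul' := fun g k => by
        rw [← Units.val_mul]
        congr 1
        rw [Subgroup.coe_mul]
        group }
  have hρdet : ∀ g, (ρ g).det = 1 := fun g => by
    show ((P⁻¹ * g.1 * P : GL (Fin 4) K) : Matrix (Fin 4) (Fin 4) K).det = 1
    rw [Units.val_mul, Units.val_mul, Matrix.det_units_conj']
    exact hdet _ g.2
  obtain ⟨Φ, hΦ⟩ := exists_six_action j hi h2 ρ hρdet fun g x => hreal g.1 g.2 x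
  have hinj := realVec_injective j hi h2
  -- conjugates of the members of the group
  have hact : ∀ (r : GL (Fin 4) K) (hr : r ∈ Γ) (s : K) (v : Lab),
      (r : Matrix (Fin 4) (Fin 4) K) = s • prodOf a b c d v → ∀ x : Fin 6 → F,
      klein (ρ ⟨r, hr⟩) (realVec j i x) = (s * s) • sixVec i fun k => bitSgn (sgn6 v k) * j (x k) := by
    intro r hr s v e' x
    have e1 : ρ ⟨r, hr⟩ = s • prodOf mA mB (mC i) mD v := by
      show ((P⁻¹ * r * P : GL (Fin 4) K) : Matrix (Fin 4) (Fin 4) K) = _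
      rw [Units.val_mul, Units.val_mul, e', mul_assoc, Matrix.smul_mul, hP, Matrix.mul_smul, ← mul_assoc,
        Units.inv_mul, one_mul]
    rw [e1, klein_smul, realVec, klein_prod hi]
  have hscal : ∀ g : Γ, Φ g = 1 → ∃ s : K, s * s = 1 ∧ (g.1 : Matrix (Fin 4) (Fin 4) K) = s • 1 := by
    intro g hg
    obtain ⟨s, hs, e'⟩ := scalar_of_trivial j hi h2 (hρdet g) fun x => by rw [← hΦ, hg, one_apply']
    refine ⟨s, hs, ?_⟩
    change ((P⁻¹ * g.1 * P : GL (Fin 4) K) : Matrix (Fin 4) (Fin 4) K) = s • 1 at e'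
    calc (g.1 : Matrix (Fin 4) (Fin 4) K)
        = (P : Matrix (Fin 4) (Fin 4) K) * ((P⁻¹ * g.1 * P : GL (Fin 4) K) : Matrix (Fin 4) (Fin 4) K) *
            ((P⁻¹ : GL (Fin 4) K) : Matrix (Fin 4) (Fin 4) K) := by
          rw [← Units.val_mul, ← Units.val_mul]
          congr 1
          group
      _ = s • 1 := by rw [e', Matrix.mul_smul, mul_one, Matrix.smul_mul, Units.mul_inv]
  refine pullback_maximal hp h2F (Or.inr rfl) hperf hRΓ Φ hcard ?_ ?_ ?_ ?_
  · let χ : Φ.ker → ({1, -1} : Set K) := fun g => ⟨(g.1.1 : Matrix (Fin 4) (Fin 4) K) 0 0, by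
      obtain ⟨s, hs, e'⟩ := hscal g.1 g.2
      rw [e']
      rcases mul_self_eq_one_iff.1 hs with rfl | rfl <;> simp⟩
    refine (Nat.card_le_card_of_injective χ fun g g' hgg => ?_).trans ?_
    · obtain ⟨s, -, e'⟩ := hscal g.1 g.2
      obtain ⟨s', -, e''⟩ := hscal g'.1 g'.2
      have := congrArg Subtype.val hgg
      simp [χ, e', e''] at this
      exact Subtype.ext (Subtype.ext (Units.ext (by rw [e', e'', this])))
    · rw [Nat.card_coe_set_eq]
      exact (Set.ncard_insert_le _ _).trans (by simp)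
  · intro g hg
    obtain ⟨s, hs, e'⟩ := hscal g hg
    rcases mul_self_eq_one_iff.1 hs with rfl | rfl
    · rw [show (g : GL (Fin 4) K) = 1 from Units.ext (by rw [e', one_smul]; rfl)]; exact R.one_mem
    · obtain ⟨z, hz, ez⟩ := mem_mul hf.mc hf.mc
      have ez' : (z : Matrix (Fin 4) (Fin 4) K) = c * c := ez
      rw [show (g : GL (Fin 4) K) = z from Units.ext (by rw [e', ez', hf.cc, neg_one_smul])]; exact hz
  · intro r hr k
    obtain ⟨v, s, e'⟩ := hf.cover (r : Matrix (Fin 4) (Fin 4) K) ⟨r, hr, rfl⟩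
    have e1 := hact r (hRΓ hr) s v e' (e k)
    rw [← hΦ] at e1
    refine ⟨(Φ ⟨r, hRΓ hr⟩).1 (e k) k, eq_smul_e fun l hl => ?_⟩
    have e2 := congrArg (fun u => sixCrd i u l) e1
    rw [← sixVec_smul] at e2
    simp only [realVec, sixCrd_sixVec hi h2, Pi.smul_apply, smul_eq_mul, e_ne hl, map_zero, mul_zero] at e2
    exact j.injective (e2.trans (map_zero j).symm)
  · intro S hS
    obtain ⟨v, ε, hv⟩ := sgn6_cover S hS
    obtain ⟨t, ht⟩ : ∃ t : K, t = if ε = 0 then 1 else i := ⟨_, rfl⟩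
    have htt : t * t = bitSgn ε := by
      rw [ht, bitSgn]
      split_ifs
      · rw [one_mul]
      · exact hi
    have hm : t • prodOf a b c d v ∈ matrixSet R := by
      have hv' : prodOf a b c d v ∈ matrixSet R := mem_mul (mem_pairProd hf.ma hf.mb _) (mem_pairProd hf.mc hf.md _)
      rw [ht]
      split_ifs
      · rwa [one_smul]
      · have := mem_mul him hv'
        rwa [Matrix.smul_mul, one_mul] at this
    obtain ⟨r, hr, e'⟩ := hm
    refine ⟨r, hr, ext_e fun k => hinj ?_⟩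
    rw [hΦ, hact r (hRΓ hr) t v e', flips_e, realVec_smul, realVec, ← sixVec_smul, ← sixVec_smul]
    congr 1
    funext l
    simp only [Pi.smul_apply, smul_eq_mul, htt]
    rcases eq_or_ne l k with rfl | hl
    · rw [e_same, map_one, mul_one, mul_one, ← bitSgn_add, add_comm, hv l]
      split_ifs <;> simp [bitSgn]
    · rw [e_ne hl, map_zero, mul_zero, mul_zero, mul_zero]

end CfsgLib.Classical.PauliFour
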